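import Groth.Agent.Lib.RefHull26.Ops
import Groth.Agent.Lib.Vol26.Zigzag
import Groth.Agent.Lib.RelAmple18.Generation
import Groth.Agent.Lib.CurveCoh17.PairDeg
import Groth.Agent.Lib.UVan10.GlobGen
import Groth.Agent.Lib.CurveCoh17.P1Apps
import Groth.Prelude.Def_RefPow

/-! # Classes of rank one modules modulo codimension two -/

set_option autoImplicit false
set_option backward.isDefEq.respectTransparency false
set_option backward.isDefEq.respectTransparency.types false
universe u

open CategoryTheory CategoryTheory.Limits AlgebraicGeometry TopologicalSpace TensorProduct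

namespace Groth.Agent.RefCh12

open CurveCoh17 (stalkLin)

variable {X : Scheme.{u}}

/-- The cokernel of a map of modules with generators at a point. -/
theorem nonempty_coker_equiv {W G : X.Modules} (φ : W ⟶ G) {x : X} {w : W.presheaf.stalk x}
    (hw : Amp.Gen w) {h : G.presheaf.stalk x} (hh : Amp.Gen h) {α : X.presheaf.stalk x}
    (e : stalkLin φ x w = α • h) :
    Nonempty ((X.presheaf.stalk x ⧸ Ideal.span {α}) ≃ₗ[X.presheaf.stalk x] (cokernel φ).presheaf.stalk x) := by
  let q : X.presheaf.stalk x →ₗ[X.presheaf.stalk x] (cokernel φ).presheaf.stalk x :=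
    (stalkLin (cokernel.π φ) x).comp (LinearMap.toSpanSingleton _ _ h)
  have hex : Function.Exact (stalkLin φ x) (stalkLin (cokernel.π φ) x) := by
    have h1 : (ShortComplex.mk φ (cokernel.π φ) (cokernel.condition φ)).Exact :=
      ShortComplex.exact_of_g_is_cokernel _ (cokernelIsCokernel φ)
    exact (ShortComplex.ab_exact_iff_function_exact _).1 (h1.map (M1.stalkAb x))
  have hsurj : Function.Surjective q := fun a => by
    obtain ⟨b, hb⟩ := (M1.epi_iff_stalk (cokernel.π φ)).1 inferInstance x a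
    obtain ⟨r, rfl⟩ := hh.2 b
    exact ⟨r, hb⟩
  have hker : LinearMap.ker q = Ideal.span {α} := by
    ext r
    constructor
    · intro hr
      obtain ⟨v, hv⟩ := (hex (r • h)).1 hr
      obtain ⟨t, rfl⟩ := hw.2 v
      simp only at hv
      rw [map_smul, e, ← mul_smul] at hv
      exact Ideal.mem_span_singleton'.2 ⟨t, hh.1 hv⟩
    · intro hr
      obtain ⟨t, rfl⟩ := Ideal.mem_span_singleton'.1 hr
      exact (hex ((t * α) • h)).2 ⟨t • w, by rw [map_smul, e, mul_smul]⟩
  exact ⟨(Submodule.quotEquivOfEq _ _ hker.symm).trans (q.quotKerEquivOfSurjective hsurj)⟩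

/-- A map sending a generator to a nonzero multiple of a generator is injective. -/
theorem injective_of_gen {W G : X.Modules} (φ : W ⟶ G) {x : X} [IsDomain (X.presheaf.stalk x)]
    {w : W.presheaf.stalk x} (hw : Amp.Gen w) {h : G.presheaf.stalk x} (hh : Amp.Gen h) {α : X.presheaf.stalk x}
    (hα : α ≠ 0) (e : stalkLin φ x w = α • h) : Function.Injective (stalkLin φ x) := fun v v' hv => by
  obtain ⟨t, rfl⟩ := hw.2 v
  obtain ⟨t', rfl⟩ := hw.2 v'
  simp only at hv ⊢
  rw [map_smul, map_smul, e, ← mul_smul, ← mul_smul] at hv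
  rw [mul_right_cancel₀ hα (hh.1 hv)]

variable [IsIntegral X]

/-- A map of rank one modules that is nonzero at the generic point is bijective there. -/
theorem bijective_generic {W G : X.Modules} (φ : W ⟶ G) {w : W.presheaf.stalk (genericPoint X)}
    (hw : Amp.Gen w) {h : G.presheaf.stalk (genericPoint X)} (hh : Amp.Gen h)
    (hne : stalkLin φ _ w ≠ 0) : Function.Bijective (stalkLin φ (genericPoint X)) := by
  obtain ⟨k, hk⟩ := hh.2 (stalkLin φ _ w)
  simp only at hk
  obtain ⟨c, hc⟩ := (RH26.isField_η (X := X)).mul_inv_cancel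
    (fun h0 : k = 0 => hne (by rw [← hk, h0, zero_smul]))
  refine ⟨fun v v' hv => ?_, fun v => ?_⟩
  · obtain ⟨t, rfl⟩ := hw.2 v
    obtain ⟨t', rfl⟩ := hw.2 v'
    simp only [] at hv ⊢
    rw [map_smul, map_smul, ← hk, ← mul_smul, ← mul_smul] at hv
    have h1 := hh.1 hv
    rw [show t = t * k * c by rw [mul_assoc, hc, mul_one], h1, mul_assoc, hc, mul_one]
  · obtain ⟨t, rfl⟩ := hh.2 v
    refine ⟨(t * c) • w, ?_⟩
    rw [map_smul, ← hk, ← mul_smul, mul_assoc, mul_comm c k, hc, mul_one]

variable [IsLocallyNoetherian X]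

omit [IsLocallyNoetherian X] in
theorem coheight_eq_one {δ : X → ℤ} (hd : Cyc.IsDimFun X δ) {n : ℤ} (hη : δ (genericPoint X) = n)
    {x : X} (hx : δ x + 1 = n) : Order.coheight x = 1 := by
  have hne : x ≠ genericPoint X := fun h => by rw [h] at hx; omega
  have hlt : ∀ {a b : X}, a < b → b ⤳ a ∧ b ≠ a := fun {a b} h => ⟨h.le, h.ne'⟩
  refine le_antisymm ?_ ?_
  · rw [show (1 : ℕ∞) = ((1 : ℕ) : ℕ∞) from rfl, Order.coheight_le_coe_iff]
    intro y hy
    have h1 := (hd y x (hlt hy).1 (hlt hy).2).1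
    have hyη : y = genericPoint X := by
      by_contra h
      have h2 := (hd _ y (genericPoint_specializes y) (Ne.symm h)).1
      omega
    have hmax : IsMax y := fun z hz => by
      subst hyη
      exact genericPoint_specializes z
    rw [Order.coheight_eq_zero.2 hmax]
    exact_mod_cast Nat.one_pos
  · rcases RH26.eq_genericPoint_or_one_le x with h | h
    · exact absurd h hne
    · rw [ringKrullDim_stalk_eq_coheight, WithBot.one_le_coe] at h
      exact h

/-- The class of the target of a generically bijective map. -/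
theorem class_eq {δ : X → ℤ} (hd : Cyc.IsDimFun X δ) {k : ℤ} (hη : δ (genericPoint X) = k + 1) {W G : X.Modules}
    (φ : W ⟶ G) (hW : Coh.IsCoh W) (hG : Coh.IsCoh G)
    (hbij : Function.Bijective (stalkLin φ (genericPoint X)))
    (hinj : ∀ x, δ x = k → Function.Injective (stalkLin φ x)) :
    Cyc.CohLe δ k (cokernel φ) ∧
      Cyc.toK0CohQuot δ (k + 1) (k - 1) G =
        Cyc.toK0CohQuot δ (k + 1) (k - 1) W + Cyc.toK0CohQuot δ (k + 1) (k - 1) (cokernel φ) := by
  have cK : Coh.IsCoh (kernel φ) := M1.isCoh_kernel hW hG.1 φ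
  have cC : Coh.IsCoh (cokernel φ) := M1.isCoh_cokernel hW.1 hG φ
  have cI : Coh.IsCoh (Abelian.image φ) := M1.isCoh_kernel hG cC.1 (cokernel.π φ)
  have hlt : ∀ x : X, x ≠ genericPoint X → δ x < k + 1 := fun x hx =>
    hη ▸ (hd _ x (genericPoint_specializes x) (Ne.symm hx)).1
  have top : ∀ {M : X.Modules}, Coh.IsCoh M → Cyc.CohLe δ (k + 1) M := fun hM => ⟨hM, fun x _ => by
    rcases eq_or_ne x (genericPoint X) with rfl | h
    · exact hη.le
    · exact (hlt x h).le⟩
  have low : ∀ {M : X.Modules}, Coh.IsCoh M → (∀ a : M.presheaf.stalk (genericPoint X), a = 0) →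
      Cyc.CohLe δ k M := fun hM h0 => ⟨hM, fun x hx => by
    rcases eq_or_ne x (genericPoint X) with rfl | h
    · exact absurd (subsingleton_of_forall_eq 0 h0) (not_subsingleton_iff_nontrivial.2 hx)
    · have := hlt x h; omega⟩
  have lC := low cC fun a => CurveCoh17.eq_zero_stalk_cokernel φ _ hbij.2 a
  have lK : Cyc.CohLe δ (k - 1) (kernel φ) := ⟨cK, fun x hx => by
    have h1 := (low cK fun a => CurveCoh17.eq_zero_stalk_kernel φ _ hbij.1 a).2 x hx
    have h2 : δ x ≠ k := fun h => absurd (subsingleton_of_forall_eq 0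
      fun a => CurveCoh17.eq_zero_stalk_kernel φ x (hinj x h) a) (not_subsingleton_iff_nontrivial.2 hx)
    omega⟩
  refine ⟨lC, ?_⟩
  have e1 := Vol26.toK0_add (δ := δ) (k + 1) (k - 1) (K0Cat.shortExact_kernel_image φ) (top cK) (top hW) (top cI)
  have e2 := Vol26.toK0_add (δ := δ) (k + 1) (k - 1)
    (ShortComplex.ShortExact.mk' (ShortComplex.exact_of_f_is_kernel
      (ShortComplex.mk (Abelian.image.ι φ) (cokernel.π φ) (kernel.condition _)) (kernelIsKernel _))
      inferInstance inferInstance) (top cI) (top hG) (top cC)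
  have e0 := (Vol26.isChar_toK0 (δ := δ) (k := k) (a := k + 1) (b := k - 1) (by omega) le_rfl).zero (kernel φ) lK
  dsimp only at e1 e2
  rw [e2, e1, e0, zero_add]

/-- The image of a generator under an isomorphism. -/
theorem gen_map {F G : X.Modules} (e : F ⟶ G) [IsIso e] {x : X} {g : F.presheaf.stalk x} (hg : Amp.Gen g) :
    Amp.Gen (stalkLin e x g) := by
  have hb : Function.Bijective (stalkLin e x) :=
    ⟨(M1.mono_iff_stalk e).1 inferInstance x, (M1.epi_iff_stalk e).1 inferInstance x⟩
  show Function.Bijective fun r => r • stalkLin e x g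
  simp only [← map_smul]
  exact hb.comp hg

/-- The value on a pure tensor of the tensor product of two maps. -/
theorem stalkLin_tensorMap_tstalk {A A' B B' : X.Modules} (f : A ⟶ A') (g : B ⟶ B') (x : X)
    (a : A.presheaf.stalk x) (b : B.presheaf.stalk x) :
    stalkLin (M2.tensorMap f g) x (Cyc26.tstalk A B x a b) =
      Cyc26.tstalk A' B' x (stalkLin f x a) (stalkLin g x b) := CurveCoh17.stalkLin_tensorMap_symm f g x a b

/-- A nonzero map from a negative power of an ample module. -/
theorem exists_source {H : X.Modules} (hH : CohB1.IsAmple H) {L : X.Modules} (hL : Coh.IsCoh L)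
    (hg : ∃ g : L.presheaf.stalk (genericPoint X), Amp.Gen g) :
    ∃ n₀ : ℕ, ∀ n, n₀ ≤ n →
      ∃ a : CohB1.tensorMod (Coh.structureModule X) (M2.dualMod (CohB1.tensorPow H n)) ⟶ L,
        ∀ g : (CohB1.tensorMod (Coh.structureModule X) (M2.dualMod (CohB1.tensorPow H n))).presheaf.stalk (genericPoint X),
          Amp.Gen g → stalkLin a _ g ≠ 0 := by
  obtain ⟨n₀, hn₀⟩ := RA.exists_globallyGenerated hH L hL.1 hL.2
  refine ⟨n₀, fun n hn => ?_⟩
  obtain ⟨h, hh⟩ := hg
  have hM := M2.isInvertible_tensorPow hH.1 n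
  let M := CohB1.tensorPow H n
  let T := CohB1.tensorMod L M
  let D := M2.dualMod M
  obtain ⟨m, hm⟩ := Cyc26.exists_gen hM (genericPoint X)
  obtain ⟨q, hq⟩ := Cyc26.exists_gen (M2.isInvertible_dualMod hM) (genericPoint X)
  have hT := RH26.gen_tstalk' hh hm
  have hspan := UVan10.spanTop_of_isGloballyGenerated (hn₀ n hn) (genericPoint X)
  obtain ⟨t, ht⟩ : ∃ t : Γ(T, ⊤), T.presheaf.germ ⊤ (genericPoint X) trivial t ≠ 0 := by
    by_contra hall
    push Not at hall
    have h0 : Cyc26.tstalk L M (genericPoint X) h m = 0 := by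
      have hmem : Cyc26.tstalk L M (genericPoint X) h m ∈ (⊤ : Submodule (X.presheaf.stalk (genericPoint X)) _) := trivial
      rw [← hspan, Submodule.span_eq_bot.2 (by rintro _ ⟨t, rfl⟩; exact hall t)] at hmem
      exact (Submodule.mem_bot _).1 hmem
    exact zero_ne_one (α := X.presheaf.stalk (genericPoint X)) (hT.1 (by
      show (0 : X.presheaf.stalk (genericPoint X)) • Cyc26.tstalk L M (genericPoint X) h m =
        (1 : X.presheaf.stalk (genericPoint X)) • Cyc26.tstalk L M (genericPoint X) h m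
      rw [h0, smul_zero, smul_zero]))
  let s : Coh.structureModule X ⟶ T := M1.secHom t
  let one : (Coh.structureModule X).presheaf.stalk (genericPoint X) :=
    (Coh.structureModule X).presheaf.germ ⊤ (genericPoint X) trivial (M1.one ⊤)
  have hs : stalkLin s (genericPoint X) one = T.presheaf.germ ⊤ (genericPoint X) trivial t := by
    simp only [one, CurveCoh17.stalkLin_apply, M1.germ_naturality, s, M1.secHom_app_one]
  let ψ : CohB1.tensorMod T D ≅ L :=
    M2.tensorAssoc L M D ≪≫ M2.tensorIso (Iso.refl L) (M2.tensorComm _ _ ≪≫ M2.dualTensorIso hM) ≪≫ M2.tensorRUnit L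
  refine ⟨M2.tensorMap s (𝟙 D) ≫ ψ.hom, fun g hg => ?_⟩
  obtain ⟨r, hr⟩ := hg.2 (Cyc26.tstalk (Coh.structureModule X) D _ one q)
  simp only at hr
  intro h0
  obtain ⟨c, hc⟩ := hT.2 (T.presheaf.germ ⊤ (genericPoint X) trivial t)
  simp only at hc
  have h1 : stalkLin (M2.tensorMap s (𝟙 D) ≫ ψ.hom) _ (Cyc26.tstalk (Coh.structureModule X) D _ one q) = 0 := by
    rw [← hr, map_smul, h0, smul_zero]
  rw [CurveCoh17.stalkLin_comp, stalkLin_tensorMap_tstalk, hs, CurveCoh17.stalkLin_id', ← hc,
    ← one_smul (X.presheaf.stalk (genericPoint X)) q, Cyc26.tstalk_smul, map_smul, mul_one] at h1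
  have h2 := gen_map ψ.hom (RH26.gen_tstalk' hT hq)
  rw [h2.1 (h1.trans (zero_smul _ _).symm), zero_smul] at hc
  exact ht hc.symm

end Groth.Agent.RefCh12
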