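import Groth.Agent.Lib.Vol26.Zigzag
import Groth.Agent.Lib.RefHull26.Ops
import Groth.Agent.Lib.CohFound.SerreVan
import Groth.Agent.Lib.Snapper.IntNum
import Groth.Agent.Lib.K0Serre9.Exact
import Groth.Agent.Lib.VB17.Setup
import Groth.Agent.Lib.CurveCoh17.P1Apps
import Groth.Agent.Lib.DPerf.OneDegree
import Groth.Prelude.Def_FGA

/-! # Alternating sums of twists lower the dimension -/

set_option autoImplicit false
set_option backward.isDefEq.respectTransparency false
set_option backward.isDefEq.respectTransparency.types false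
universe u

open CategoryTheory CategoryTheory.Limits AlgebraicGeometry TopologicalSpace TensorProduct

noncomputable section

namespace Groth.Agent.RefCh12

variable {X : Scheme.{u}}

/-- The classes of modules of dimension at most `j`. -/
def lvl (δ : X → ℤ) (n j : ℤ) : AddSubgroup (KZero.K0sub (Cyc.CohLe δ n)) :=
  AddSubgroup.closure {c | ∃ F : X.Modules, Cyc.CohLe δ j F ∧ c = KZero.clSub (Cyc.CohLe δ n) F}

theorem mk_eq_iff {δ : X → ℤ} {n j : ℤ} (F G : X.Modules) :
    Cyc.toK0CohQuot δ n j F = Cyc.toK0CohQuot δ n j G ↔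
      KZero.clSub (Cyc.CohLe δ n) F - KZero.clSub (Cyc.CohLe δ n) G ∈ lvl δ n j := by
  rw [Cyc.toK0CohQuot, Cyc.toK0CohQuot, ← sub_eq_zero, ← QuotientAddGroup.mk_sub,
    QuotientAddGroup.eq_zero_iff]
  rfl

theorem cohLe_of_equiv {δ : X → ℤ} {j : ℤ} {F G : X.Modules} (hF : Cyc.CohLe δ j F) (hG : Coh.IsCoh G)
    (e : ∀ x : X, G.presheaf.stalk x → F.presheaf.stalk x) (he : ∀ x, Function.Injective (e x)) :
    Cyc.CohLe δ j G := ⟨hG, fun x hx => hF.2 x ((he x).nontrivial)⟩

theorem cohLe_iso {δ : X → ℤ} {j : ℤ} {F G : X.Modules} (e : F ≅ G) (hF : Cyc.CohLe δ j F) :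
    Cyc.CohLe δ j G :=
  cohLe_of_equiv hF (CohFound.isCoh_of_iso e hF.1) (fun x => CurveCoh17.stalkLin e.inv x)
    fun x => (M1.mono_iff_stalk e.inv).1 inferInstance x

theorem clSub_iso [IsLocallyNoetherian X] {δ : X → ℤ} {j : ℤ} {F G : X.Modules} (e : F ≅ G) (hF : Cyc.CohLe δ j F) :
    KZero.clSub (Cyc.CohLe δ j) F = KZero.clSub (Cyc.CohLe δ j) G := by
  have hZ : Cyc.CohLe δ j (cokernel (𝟙 F)) := ⟨M1.isCoh_cokernel hF.1.1 hF.1 _, fun x hx =>
    absurd (subsingleton_of_forall_eq 0 fun a => CurveCoh17.eq_zero_stalk_cokernel (𝟙 F) x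
      (fun b => ⟨b, CurveCoh17.stalkLin_id' x b⟩) a) (not_subsingleton_iff_nontrivial.2 hx)⟩
  have h : (ShortComplex.mk e.hom (0 : G ⟶ cokernel (𝟙 F)) comp_zero).ShortExact :=
    ShortComplex.shortExact_of_iso
      (ShortComplex.isoMk (S₁ := ShortComplex.mk (𝟙 F) (0 : F ⟶ cokernel (𝟙 F)) comp_zero)
        (Iso.refl _) e (Iso.refl _) (by simp) (by simp))
      (K0Cat.shortExact_id_zero (isZero_cokernel_of_epi _))
  have h1 := K0Cat.clSub_ses (P := Cyc.CohLe δ j) _ h hF (cohLe_iso e hF) hZ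
  dsimp only at h1
  rw [h1, K0Cat.clSub_of_isZero (isZero_cokernel_of_epi _) hZ, add_zero]

variable [IsLocallyNoetherian X] {δ : X → ℤ}

theorem stalk_tensor_equiv (F : X.Modules) {M : X.Modules} (hM : PicF.IsInvertible M) (x : X) :
    Nonempty ((CohB1.tensorMod F M).presheaf.stalk x ≃ₗ[X.presheaf.stalk x] F.presheaf.stalk x) := by
  obtain ⟨g, hg⟩ := Cyc26.exists_gen hM x
  exact ⟨(M2.stalkEquiv F M x).trans ((TensorProduct.congr (LinearEquiv.refl _ _) (RH26.genEquiv hg).symm).trans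
    (TensorProduct.rid _ _))⟩

theorem cohLe_tensor {j : ℤ} {F M : X.Modules} (hM : PicF.IsInvertible M) (hF : Cyc.CohLe δ j F) :
    Cyc.CohLe δ j (CohB1.tensorMod F M) :=
  cohLe_of_equiv hF (CohFound.isCoh_tensor hF.1 (Snapper.isCoh_of_isInvertible hM))
    (fun x => (stalk_tensor_equiv F hM x).some) fun x => (stalk_tensor_equiv F hM x).some.injective

open scoped Classical in
/-- Twisting by an invertible module, on classes. -/
def tw (n : ℤ) (M : X.Modules) (hM : PicF.IsInvertible M) :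
    KZero.K0sub (Cyc.CohLe δ n) →+ KZero.K0sub (Cyc.CohLe δ n) :=
  K0Cat.liftSub (fun F => KZero.clSub (Cyc.CohLe δ n) (CohB1.tensorMod F.1 M)) fun S h₁ h₂ h₃ hS => by
    exact K0Cat.clSub_ses (S.map (M2.tensorR M)) (CohFound.shortExact_tensor_invertible hS hM)
      (cohLe_tensor hM h₁) (cohLe_tensor hM h₂) (cohLe_tensor hM h₃)

theorem tw_clSub {n : ℤ} {M : X.Modules} (hM : PicF.IsInvertible M) {F : X.Modules} (hF : Cyc.CohLe δ n F) :
    tw n M hM (KZero.clSub (Cyc.CohLe δ n) F) = KZero.clSub (Cyc.CohLe δ n) (CohB1.tensorMod F M) :=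
  K0Cat.liftSub_clSub _ _ hF

theorem tw_congr {n : ℤ} {M N : X.Modules} (hM : PicF.IsInvertible M) (hN : PicF.IsInvertible N)
    (e : Nonempty (M ≅ N)) : tw (δ := δ) n M hM = tw n N hN := by
  refine AddMonoidHom.ext fun x => ?_
  induction x using K0Cat.clSub_induction with
  | h0 => simp
  | hcl F hF => rw [tw_clSub hM hF, tw_clSub hN hF, clSub_iso (M2.tensorIso (Iso.refl F) e.some) (cohLe_tensor hM hF)]
  | hneg a ha => simp [ha]
  | hadd a b ha hb => simp [ha, hb]

theorem tw_tw {n : ℤ} {M N : X.Modules} (hM : PicF.IsInvertible M) (hN : PicF.IsInvertible N) :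
    (tw (δ := δ) n M hM).comp (tw n N hN) = tw n (CohB1.tensorMod N M) (M2.isInvertible_tensor hN hM) := by
  refine AddMonoidHom.ext fun x => ?_
  induction x using K0Cat.clSub_induction with
  | h0 => simp
  | hcl F hF =>
    rw [AddMonoidHom.comp_apply, tw_clSub hN hF, tw_clSub hM (cohLe_tensor hN hF), tw_clSub _ hF,
      clSub_iso (M2.tensorAssoc F N M) (cohLe_tensor hM (cohLe_tensor hN hF))]
  | hneg a ha => simp only [map_neg, ha]
  | hadd a b ha hb => simp only [map_add, ha, hb]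

/-- `1 - M`. -/
def dif (n : ℤ) (M : X.Modules) (hM : PicF.IsInvertible M) :
    KZero.K0sub (Cyc.CohLe δ n) →+ KZero.K0sub (Cyc.CohLe δ n) := AddMonoidHom.id _ - tw n M hM

theorem dif_mem (hd : Cyc.IsDimFun X δ) {n j : ℤ} (hj : j ≤ n) {M : X.Modules} (hM : PicF.IsInvertible M)
    {x : KZero.K0sub (Cyc.CohLe δ n)} (hx : x ∈ lvl δ n j) : dif n M hM x ∈ lvl δ n (j - 1) := by
  have h : lvl δ n j ≤ (lvl δ n (j - 1)).comap (dif n M hM) := by
    refine (AddSubgroup.closure_le _).2 ?_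
    rintro _ ⟨F, hF, rfl⟩
    show _ ∈ lvl δ n (j - 1)
    rw [dif, AddMonoidHom.sub_apply, AddMonoidHom.id_apply,
      tw_clSub hM ⟨hF.1, fun x hx => (hF.2 x hx).trans hj⟩, ← mk_eq_iff]
    refine (Vol26.isChar_toK0 (δ := δ) (k := j) hj le_rfl).congr hd hF (cohLe_tensor hM hF) (funext fun x => ?_)
    unfold Cyc.sheafFun
    obtain ⟨e⟩ := stalk_tensor_equiv F hM x
    rw [e.length_eq]
  exact h hx

variable {m : ℕ}

/-- The tensor product of a subfamily. -/
abbrev sel (M : Fin m → X.Modules) (I : Finset (Fin m)) : X.Modules :=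
  FGA.tensorList ((I.sort (· ≤ ·)).map M)

theorem isInvertible_sel {M : Fin m → X.Modules} (hM : ∀ i, PicF.IsInvertible (M i)) (I : Finset (Fin m)) :
    PicF.IsInvertible (sel M I) :=
  Snapper.isInvertible_tensorList fun N hN => by
    obtain ⟨i, -, rfl⟩ := List.mem_map.1 hN
    exact hM i

theorem nonempty_sel_insert (M : Fin m → X.Modules) {I : Finset (Fin m)} {a : Fin m} (ha : a ∉ I) :
    Nonempty (sel M (insert a I) ≅ CohB1.tensorMod (M a) (sel M I)) := by
  have h : ((insert a I).sort (· ≤ ·)).Perm (a :: I.sort (· ≤ ·)) :=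
    List.perm_of_nodup_nodup_toFinset_eq (Finset.sort_nodup _ _)
      (List.nodup_cons.2 ⟨by simpa using ha, Finset.sort_nodup _ _⟩) (by simp)
  exact Snapper.nonempty_tensorList_perm (h.map M)

/-- The alternating sum over the subsets of `S`. -/
def alt (n : ℤ) (M : Fin m → X.Modules) (hM : ∀ i, PicF.IsInvertible (M i)) (S : Finset (Fin m)) :
    KZero.K0sub (Cyc.CohLe δ n) →+ KZero.K0sub (Cyc.CohLe δ n) :=
  ∑ I ∈ S.powerset, ((-1 : ℤ) ^ I.card) • tw n (sel M I) (isInvertible_sel hM I)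

theorem alt_insert (n : ℤ) (M : Fin m → X.Modules) (hM : ∀ i, PicF.IsInvertible (M i)) {S : Finset (Fin m)}
    {a : Fin m} (ha : a ∉ S) :
    alt (δ := δ) n M hM (insert a S) = (alt n M hM S).comp (dif n (M a) (hM a)) := by
  classical
  refine AddMonoidHom.ext fun x => ?_
  simp only [alt, dif, Finset.sum_powerset_insert ha, AddMonoidHom.add_apply, AddMonoidHom.finsetSum_apply,
    AddMonoidHom.smul_apply, AddMonoidHom.comp_apply, AddMonoidHom.sub_apply, AddMonoidHom.id_apply, map_sub,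
    smul_sub, Finset.sum_sub_distrib]
  rw [sub_eq_add_neg, ← Finset.sum_neg_distrib]
  congr 1
  refine Finset.sum_congr rfl fun I hI => ?_
  have haI : a ∉ I := fun h => ha (Finset.mem_powerset.1 hI h)
  rw [Finset.card_insert_of_notMem haI, pow_succ, mul_neg_one, neg_smul,
    tw_congr _ (M2.isInvertible_tensor (hM a) (isInvertible_sel hM I)) (nonempty_sel_insert M haI),
    ← tw_tw (isInvertible_sel hM I) (hM a)]
  rfl

theorem alt_mem (hd : Cyc.IsDimFun X δ) {n : ℤ} (M : Fin m → X.Modules) (hM : ∀ i, PicF.IsInvertible (M i))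
    (S : Finset (Fin m)) : ∀ {j : ℤ}, j ≤ n → ∀ {x : KZero.K0sub (Cyc.CohLe δ n)}, x ∈ lvl δ n j →
      alt n M hM S x ∈ lvl δ n (j - S.card) := by
  classical
  induction S using Finset.induction_on with
  | empty =>
    intro j hj x hx
    simp only [alt, Finset.powerset_empty, Finset.sum_singleton, Finset.card_empty, pow_zero, one_smul,
      Nat.cast_zero, sub_zero]
    have h : lvl δ n j ≤ (lvl δ n j).comap (tw n (sel M ∅) (isInvertible_sel hM ∅)) := by
      refine (AddSubgroup.closure_le _).2 ?_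
      rintro _ ⟨F, hF, rfl⟩
      show _ ∈ lvl δ n j
      rw [tw_clSub _ ⟨hF.1, fun x hx => (hF.2 x hx).trans hj⟩]
      exact AddSubgroup.subset_closure ⟨_, cohLe_tensor (isInvertible_sel hM ∅) hF, rfl⟩
    exact h hx
  | insert a S ha ih =>
    intro j hj x hx
    rw [alt_insert n M hM ha, AddMonoidHom.comp_apply, Finset.card_insert_of_notMem ha,
      show j - ((S.card + 1 : ℕ) : ℤ) = j - 1 - S.card by push_cast; ring]
    exact ih (by omega) (dif_mem hd hj (hM a) hx)

/-- The sums of the statements in terms of `alt`. -/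
theorem alt_univ_clSub {n : ℤ} (M : Fin m → X.Modules) (hM : ∀ i, PicF.IsInvertible (M i)) {F : X.Modules}
    (hF : Cyc.CohLe δ n F) :
    alt n M hM Finset.univ (KZero.clSub (Cyc.CohLe δ n) F) =
      ∑ I : Finset (Fin m), ((-1 : ℤ) ^ I.card) •
        KZero.clSub (Cyc.CohLe δ n) (CohB1.tensorMod (FGA.tensorList ((I.sort (· ≤ ·)).map M)) F) := by
  simp only [alt, Finset.powerset_univ, AddMonoidHom.finsetSum_apply, AddMonoidHom.smul_apply]
  refine Finset.sum_congr rfl fun I _ => ?_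
  rw [tw_clSub _ hF, clSub_iso (M2.tensorComm F (sel M I)) (cohLe_tensor (isInvertible_sel hM I) hF)]

theorem lvl_eq_bot (hd : Cyc.IsDimFun X δ) [IsIntegral X] {n : ℤ} (hn : 0 ≤ n) (hη : δ (genericPoint X) = n)
    (hdim : topologicalKrullDim X ≤ (n.toNat : WithBot ℕ∞)) {j : ℤ} (hj : j < 0) : lvl δ n j = ⊥ := by
  classical
  have key : ∀ (d : ℕ) (x : X), δ x + d = n → (d : ℕ∞) ≤ Order.coheight x := by
    intro d
    induction d using Nat.strong_induction_on with
    | _ d ih =>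
      intro x hx
      rcases Nat.eq_zero_or_pos d with rfl | hd0
      · simp
      have hxη : x ≠ genericPoint X := fun h => by rw [h, hη] at hx; omega
      obtain ⟨y, ⟨hyx, hne⟩, hmin⟩ : ∃ y : X, (y ⤳ x ∧ y ≠ x) ∧ ∀ z : X, z ⤳ x → z ≠ x → δ y ≤ δ z := by
        have h : ∃ e : ℕ, ∃ z : X, z ⤳ x ∧ z ≠ x ∧ δ z = δ x + e :=
          ⟨d, genericPoint X, genericPoint_specializes x, Ne.symm hxη, by omega⟩
        obtain ⟨y, hyx, hne, hy⟩ := Nat.find_spec h
        refine ⟨y, ⟨hyx, hne⟩, fun z hz hzne => ?_⟩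
        have h1 := (hd z x hz hzne).1
        have h2 : Nat.find h ≤ (δ z - δ x).toNat := Nat.find_le ⟨z, hz, hzne, by omega⟩
        omega
      have hstep : δ y = δ x + 1 := (hd y x hyx hne).2 fun z hyz hzx => by
        by_contra hz
        rw [not_or] at hz
        have h1 := (hd y z hyz (Ne.symm hz.1)).1
        have h2 := hmin z hzx hz.2
        omega
      have h1 := ih (d - 1) (by omega) y (by omega)
      have hlt : x < y := lt_of_le_not_ge hyx fun h' => hne (hyx.antisymm h').eq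
      refine le_trans ?_ (Order.coheight_add_one_le hlt)
      refine le_trans ?_ (add_le_add h1 le_rfl)
      obtain ⟨e, rfl⟩ : ∃ e, d = e + 1 := ⟨d - 1, by omega⟩
      rw [Nat.add_sub_cancel]
      exact_mod_cast le_refl (e + 1)
  have hpos : ∀ x : X, 0 ≤ δ x := fun x => by
    have hle : δ x ≤ n := by
      rcases eq_or_ne x (genericPoint X) with rfl | h
      · exact hη.le
      · exact hη ▸ (hd _ x (genericPoint_specializes x) (Ne.symm h)).1.le
    have h1 := key (n - δ x).toNat x (by omega)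
    have h2 := (VB17.ringKrullDim_stalk_le_topologicalKrullDim x).trans hdim
    rw [ringKrullDim_stalk_eq_coheight] at h2
    have h3 : ((n - δ x).toNat : ℕ∞) ≤ (n.toNat : ℕ∞) := h1.trans (WithBot.coe_le_coe.1 h2)
    have h4 : (n - δ x).toNat ≤ n.toNat := by exact_mod_cast h3
    omega
  refine AddSubgroup.closure_eq_bot_iff.2 ?_
  rintro _ ⟨F, hF, rfl⟩
  refine Set.mem_singleton_iff.2 (K0Cat.clSub_of_isZero ?_ ⟨hF.1, fun x hx => ?_⟩)
  · refine DPerf.isZero_of_stalks fun x => not_nontrivial_iff_subsingleton.1 fun hx => ?_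
    have := hF.2 x hx
    have := hpos x
    omega
  · have := hF.2 x hx
    omega

end Groth.Agent.RefCh12
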