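import Groth.Agent.Lib.RefCh12.Index
import Groth.Agent.Lib.RefCh12.Alt
import Groth.Agent.Lib.RelAmple18.Ops
import Groth.Agent.Lib.VB17.Ext

/-! # Maps with prescribed values at the generic point -/

set_option autoImplicit false
set_option linter.style.haveILetI false
set_option backward.isDefEq.respectTransparency false
set_option backward.isDefEq.respectTransparency.types false
universe u

open CategoryTheory CategoryTheory.Limits AlgebraicGeometry TopologicalSpace

noncomputable section

namespace Groth.Agent.RefCh12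

open CurveCoh17 (stalkLin)

variable {X : Scheme.{u}}

/-- The germ of one. -/
def oneAt (X : Scheme.{u}) (x : X) : (Coh.structureModule X).presheaf.stalk x :=
  (Coh.structureModule X).presheaf.germ ⊤ x trivial (M1.one ⊤)

theorem gen_oneAt (x : X) : Amp.Gen (oneAt X x) := Amp.gen_one (U := ⊤) x trivial

theorem oneAt_sp {x y : X} (h : y ⤳ x) :
    (Coh.structureModule X).presheaf.stalkSpecializes h (oneAt X x) = oneAt X y :=
  TopCat.Presheaf.germ_stalkSpecializes_apply _ _ _ _

/-- Prescribed values after a twist. -/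
theorem exists_twisted [IsIntegral X] {H : X.Modules} (hH : CohB1.IsAmple H) {ι : Type} [Finite ι]
    (F : ι → X.Modules) (hF : ∀ i, Coh.IsQCoh (F i)) (e : ∀ i, (F i).presheaf.stalk (genericPoint X)) :
    ∃ (M : X.Modules) (_ : PicF.IsInvertible M) (p : M.presheaf.stalk (genericPoint X)), Amp.Gen p ∧
      ∀ i, ∃ f : Coh.structureModule X ⟶ CohB1.tensorMod (F i) M,
        stalkLin f _ (oneAt X (genericPoint X)) = Cyc26.tstalk (F i) M _ (e i) p := by
  classical
  haveI := Fintype.ofFinite ι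
  choose O hO t ht using fun i => (F i).presheaf.exists_germ_eq (e i)
  have hmem : ∀ T : Finset ι, genericPoint X ∈ T.inf O := by
    intro T
    induction T using Finset.cons_induction with
    | empty => simp
    | cons a T _ ih => rw [Finset.inf_cons]; exact ⟨hO a, ih⟩
  obtain ⟨n, G, ⟨s, rfl⟩, hηG, hGle, -⟩ := Amp.exists_hasSec_le hH (hmem Finset.univ)
  have hM₀ := M2.isInvertible_tensorPow hH.1 (n + 1)
  haveI := hH.2.1
  haveI := Amp.quasiSeparatedSpace_of_isAmple hH
  let G := CohB1.genLocus (CohB1.tensorPow H (n + 1)) s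
  have hGi : ∀ i, G ≤ O i := fun i => hGle.trans (Finset.inf_le (Finset.mem_univ i))
  choose q hq using fun i => by
    haveI := hF i
    exact Amp.exists_extend_genLocus hM₀ s (F i) (M1.mres (F i) (hGi i) (t i))
  let N := Finset.univ.sup q
  let π : Γ(CohB1.tensorPow (CohB1.tensorPow H (n + 1)) N, G) := Amp.pw (M2.res _ le_top (Amp.gval s)) N
  refine ⟨_, M2.isInvertible_tensorPow hM₀ N, Amp.gm _ (genericPoint X) hηG π, ?_, fun i => ?_⟩
  · refine Amp.gen_pw hM₀ hηG _ N ?_
    rw [Amp.gm_res]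
    exact (Amp.mem_genLocus_iff hM₀ s).mp hηG
  · obtain ⟨t', ht'⟩ := hq i N (Finset.le_sup (f := q) (Finset.mem_univ i))
    refine ⟨M1.secHom t', ?_⟩
    simp only [oneAt, CurveCoh17.stalkLin_apply, M1.germ_naturality, M1.secHom_app_one]
    refine (Amp.gm_res (le_top : G ≤ ⊤) hηG t').symm.trans ?_
    rw [ht', ← ht i, ← M1.germ_mres (F i) (hGi i) hηG (t i)]
    exact (Cyc26.tstalk_germ _ hηG _ _).symm

/-- The stalks of a finite biproduct. -/
theorem exists_stalk_biproduct {r : ℕ} (A : Fin r → X.Modules) (x : X) :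
    ∃ Ψ : (∀ i, (A i).presheaf.stalk x) ≃ₗ[X.presheaf.stalk x] (⨁ A).presheaf.stalk x,
      ∀ c, Ψ c = ∑ i, stalkLin (biproduct.ι A i) x (c i) := by
  classical
  have h1 : ∀ i j (a : (A j).presheaf.stalk x), stalkLin (biproduct.π A i) x (stalkLin (biproduct.ι A j) x a) =
      if h : j = i then h ▸ a else 0 := by
    intro i j a
    rw [← CurveCoh17.stalkLin_comp]
    split_ifs with h
    · subst h
      rw [biproduct.ι_π_self, CurveCoh17.stalkLin_id']
    · rw [biproduct.ι_π_ne _ h, CurveCoh17.stalkLin_apply, Functor.map_zero]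
      rfl
  let Ψ₀ : (∀ i, (A i).presheaf.stalk x) →ₗ[X.presheaf.stalk x] (⨁ A).presheaf.stalk x :=
    LinearMap.lsum _ (fun i => (A i).presheaf.stalk x) (X.presheaf.stalk x) fun i => stalkLin (biproduct.ι A i) x
  have hΨ : ∀ c, Ψ₀ c = ∑ i, stalkLin (biproduct.ι A i) x (c i) := fun c => by
    simp [Ψ₀, LinearMap.lsum_apply]
  have hinv : ∀ c i, stalkLin (biproduct.π A i) x (Ψ₀ c) = c i := fun c i => by
    rw [hΨ, map_sum, Finset.sum_eq_single i]
    · rw [h1, dif_pos rfl]
    · intro j _ hj; rw [h1, dif_neg hj]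
    · simp
  refine ⟨LinearEquiv.ofBijective Ψ₀ ⟨fun c c' h => funext fun i => by rw [← hinv c i, h, hinv], fun v => ?_⟩, hΨ⟩
  refine ⟨fun i => stalkLin (biproduct.π A i) x v, ?_⟩
  rw [hΨ]
  have h2 : (M1.stalkAb x).map (∑ i, biproduct.π A i ≫ biproduct.ι A i) v = v := by
    rw [biproduct.total, CategoryTheory.Functor.map_id]
    rfl
  refine Eq.trans ?_ h2
  rw [Functor.map_sum]
  let g : ((M1.stalkAb x).obj (⨁ A) ⟶ (M1.stalkAb x).obj (⨁ A)) →+ (M1.stalkAb x).obj (⨁ A) :=
    { toFun := fun f => f v, map_zero' := rfl, map_add' := fun _ _ => rfl }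
  refine Eq.trans ?_ (map_sum g _ _).symm
  refine Finset.sum_congr rfl fun i _ => ?_
  rw [← CurveCoh17.stalkLin_comp]
  rfl

/-- The first summand of a finite biproduct. -/
theorem shortExact_biproduct_succ {r : ℕ} (A : X.Modules) :
    (ShortComplex.mk (biproduct.ι (fun _ : Fin (r + 1) => A) 0)
      (biproduct.lift fun i : Fin r => biproduct.π (fun _ : Fin (r + 1) => A) i.succ)
      (biproduct.hom_ext _ _ fun i => by
        rw [Category.assoc, biproduct.lift_π, biproduct.ι_π_ne _ (Fin.succ_ne_zero i).symm, zero_comp])).ShortExact :=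
  ShortComplex.Splitting.shortExact
    { r := biproduct.π (fun _ : Fin (r + 1) => A) 0
      s := biproduct.desc fun i : Fin r => biproduct.ι (fun _ : Fin (r + 1) => A) i.succ
      f_r := biproduct.ι_π_self (fun _ : Fin (r + 1) => A) 0
      s_g := by
        refine biproduct.hom_ext' _ _ fun i => biproduct.hom_ext _ _ fun j => ?_
        simp only [biproduct.ι_desc_assoc, Category.assoc, biproduct.lift_π, Category.comp_id]
        rcases eq_or_ne i j with rfl | h
        · rw [biproduct.ι_π_self, biproduct.ι_π_self]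
        · rw [biproduct.ι_π_ne _ h, biproduct.ι_π_ne _ (fun h' => h (Fin.succ_injective _ h'))]
      id := by
        rw [biproduct.lift_desc, ← biproduct.total, Fin.sum_univ_succ] }

variable [IsLocallyNoetherian X] {δ : X → ℤ}

/-- Classes and lengths of a finite biproduct. -/
theorem biproduct_spec {n j : ℤ} (hjn : j ≤ n) {A : X.Modules} (hA : Cyc.CohLe δ j A) : ∀ r : ℕ,
    Cyc.CohLe δ j (⨁ fun _ : Fin r => A) ∧
      KZero.clSub (Cyc.CohLe δ n) (⨁ fun _ : Fin r => A) = (r : ℤ) • KZero.clSub (Cyc.CohLe δ n) A := by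
  have coh : ∀ r, Cyc.CohLe δ j (⨁ fun _ : Fin r => A) := fun r => by
    have hc : Coh.IsCoh (⨁ fun _ : Fin r => A) := by
      induction r with
      | zero =>
        refine CohFound.isCoh_of_iso (M := cokernel (𝟙 A)) ?_ (M1.isCoh_cokernel hA.1.1 hA.1 _)
        exact (isZero_cokernel_of_epi _).iso (((IsZero.iff_id_eq_zero _).2 (biproduct.hom_ext _ _ fun i => i.elim0)))
      | succ r ih =>
        exact VB17.isCoh_extension (shortExact_biproduct_succ A) hA.1 ih
    refine ⟨hc, fun x hx => ?_⟩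
    obtain ⟨Ψ, -⟩ := exists_stalk_biproduct (fun _ : Fin r => A) x
    haveI := Ψ.toEquiv.nontrivial
    obtain ⟨c, c', hne⟩ := exists_pair_ne (Fin r → A.presheaf.stalk x)
    obtain ⟨i, hi⟩ := Function.ne_iff.1 hne
    exact hA.2 x ⟨_, _, hi⟩
  intro r
  refine ⟨coh r, ?_⟩
  have up : ∀ {B : X.Modules}, Cyc.CohLe δ j B → Cyc.CohLe δ n B := fun hB => ⟨hB.1, fun x hx => (hB.2 x hx).trans hjn⟩
  induction r with
  | zero => rw [K0Cat.clSub_of_isZero (((IsZero.iff_id_eq_zero _).2 (biproduct.hom_ext _ _ fun i => i.elim0))) (up (coh 0)), Nat.cast_zero, zero_smul]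
  | succ r ih =>
    have h := K0Cat.clSub_ses (P := Cyc.CohLe δ n) _ (shortExact_biproduct_succ (r := r) A) (up hA) (up (coh (r + 1))) (up (coh r))
    dsimp only at h
    rw [h, ih, Nat.cast_succ, add_smul, one_smul, add_comm]

end Groth.Agent.RefCh12
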