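import Mathlib.LinearAlgebra.ExteriorPower.Basic
import Mathlib.LinearAlgebra.Determinant

/-! # Torsion freeness of wedges -/

set_option autoImplicit false
universe u

open exteriorPower

noncomputable section

namespace Groth.Agent.RefCh12

/-- A wedge mapping to a basis is torsion free. -/
theorem algebraMap_eq_zero_of_smul_ιMulti {A K M V : Type u} [CommRing A] [CommRing K] [Algebra A K]
    [AddCommGroup M] [Module A M] [AddCommGroup V] [Module K V] [Module A V] [IsScalarTower A K V] {r : ℕ}
    (b : Module.Basis (Fin r) K V) (G : M →ₗ[A] V) (e : Fin r → M) (hb : ∀ k, G (e k) = b k) {q : A}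
    (h : q • ιMulti A r e = 0) : algebraMap A K q = 0 := by
  classical
  let B : V [⋀^Fin r]→ₗ[K] K := b.det
  let D : M [⋀^Fin r]→ₗ[A] K :=
    { toMultilinearMap := (B.toMultilinearMap.restrictScalars A).compLinearMap fun _ => G
      map_eq_zero_of_eq' := fun v i j hv hij => B.map_eq_zero_of_eq (fun k => G (v k)) (congrArg G hv) hij }
  have h2 := congrArg (exteriorPower.alternatingMapLinearEquiv D) h
  rw [map_smul, exteriorPower.alternatingMapLinearEquiv_apply_ιMulti, map_zero] at h2
  have h3 : D e = 1 := by
    show B (fun k => G (e k)) = 1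
    rw [show (fun k => G (e k)) = ⇑b from funext hb]
    exact b.det_self
  rwa [h3, Algebra.smul_def, mul_one] at h2

end Groth.Agent.RefCh12
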