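import Groth.Agent.Lib.RefHull26.Ops
import Groth.Agent.Lib.Wedge2.Props
import Groth.Agent.Lib.Wedge2.Top
import Groth.Agent.Lib.ModM1.Coh
import Groth.Agent.Lib.RefCh12.WedgeAlg

/-! # The germs of wedges of sections -/

set_option autoImplicit false
set_option linter.style.haveILetI false
set_option backward.isDefEq.respectTransparency false
set_option backward.isDefEq.respectTransparency.types false
universe u

open CategoryTheory AlgebraicGeometry TopologicalSpace exteriorPower

noncomputable section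

namespace Groth.Agent.RefCh12

/-- An alternating map on linear combinations. -/
theorem alternating_comb {A M N : Type u} [CommRing A] [AddCommGroup M] [Module A M] [AddCommGroup N] [Module A N]
    {r : ℕ} (g : M [⋀^Fin r]→ₗ[A] N) (e : Fin r → M) (d : Matrix (Fin r) (Fin r) A) :
    g (fun j => ∑ k, d j k • e k) = d.det • g e := by
  classical
  let L : (Fin r → A) →ₗ[A] M := Fintype.linearCombination A e
  let b := Pi.basisFun A (Fin r)
  let g' := g.compLinearMap L
  let s : (Fin r → A) [⋀^Fin r]→ₗ[A] N :=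
    (LinearMap.toSpanSingleton A N (g e)).compAlternatingMap (Pi.basisFun A (Fin r)).det
  have hL : ∀ i, L (b i) = e i := fun i => by
    simp only [L, b, Pi.basisFun_apply, Fintype.linearCombination_apply_single, one_smul]
  have h : g' = s := by
    refine b.ext_alternating fun v hv => ?_
    let σ : Equiv.Perm (Fin r) := Equiv.ofBijective v (Finite.injective_iff_bijective.1 hv)
    show g (fun i => L (b (σ i))) = b.det (⇑b ∘ σ) • g e
    simp only [hL]
    rw [show (fun i => e (σ i)) = e ∘ σ from rfl, AlternatingMap.map_perm g e σ, b.det.map_perm (⇑b) σ, b.det_self,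
      Units.smul_def, Units.smul_def, ← Int.cast_smul_eq_zsmul A]
    simp
  have h2 := congrArg (fun F : (Fin r → A) [⋀^Fin r]→ₗ[A] N => F d) h
  simp only [g', s, AlternatingMap.compLinearMap_apply, LinearMap.compAlternatingMap_apply,
    LinearMap.toSpanSingleton_apply] at h2
  rw [show (fun j => ∑ k, d j k • e k) = fun j => L (d j) from funext fun j =>
    (Fintype.linearCombination_apply A e (d j)).symm]
  refine h2.trans ?_
  rw [Pi.basisFun_det_apply]
  rfl

variable {X : Scheme.{u}} {F W : X.Modules} {r : ℕ}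
  (φ : ∀ U : X.affineOpens, Γ(W, U.1) ≃ₗ[Γ(X, U.1)] ↥(⋀[Γ(X, U.1)]^r Γ(F, U.1)))

/-- The germ of the wedge of sections. -/
def wg (U : X.affineOpens) {y : X} (hy : y ∈ U.1) (f : Fin r → Γ(F, U.1)) : W.presheaf.stalk y :=
  W.presheaf.germ U.1 y hy ((φ U).symm (ιMulti _ r f))

/-- The compatibility of the family. -/
def Compat : Prop :=
  ∀ (U V : X.affineOpens) (h : V.1 ≤ U.1) (e : Fin r → Γ(F, U.1)),
    M1.mres W h ((φ U).symm (ιMulti _ r e)) = (φ V).symm (ιMulti _ r fun j => M1.mres F h (e j))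

variable {φ}

theorem wg_mres (hφ : Compat φ) {U V : X.affineOpens} (h : V.1 ≤ U.1) {y : X} (hy : y ∈ V.1)
    (f : Fin r → Γ(F, U.1)) : wg φ V hy (fun j => M1.mres F h (f j)) = wg φ U (h hy) f := by
  rw [wg, wg, ← hφ U V h f, M1.germ_mres]

/-- Change of generators. -/
theorem wg_det (hφ : Compat φ) {U U' : X.affineOpens} {y : X} (hy : y ∈ U.1) (hy' : y ∈ U'.1)
    (f : Fin r → Γ(F, U.1)) (e : Fin r → Γ(F, U'.1)) (c : Matrix (Fin r) (Fin r) (X.presheaf.stalk y))
    (h : ∀ j, F.presheaf.germ U.1 y hy (f j) = ∑ k, c j k • F.presheaf.germ U'.1 y hy' (e k)) :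
    wg φ U hy f = c.det • wg φ U' hy' e := by
  classical
  choose O hO d hd using fun j k => X.presheaf.exists_germ_eq (c j k)
  let O₀ : X.Opens := U.1 ⊓ U'.1 ⊓ Finset.univ.inf fun p : Fin r × Fin r => O p.1 p.2
  have hmem : ∀ T : Finset (Fin r × Fin r), y ∈ T.inf fun p => O p.1 p.2 := by
    intro T
    induction T using Finset.cons_induction with
    | empty => simp
    | cons a T _ ih => rw [Finset.inf_cons]; exact ⟨hO _ _, ih⟩
  have hy₀ : y ∈ O₀ := ⟨⟨hy, hy'⟩, hmem _⟩
  have l1 : O₀ ≤ U.1 := inf_le_left.trans inf_le_left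
  have l2 : O₀ ≤ U'.1 := inf_le_left.trans inf_le_right
  have l3 : ∀ j k, O₀ ≤ O j k := fun j k =>
    inf_le_right.trans (Finset.inf_le (f := fun p : Fin r × Fin r => O p.1 p.2) (Finset.mem_univ (j, k)))
  have heq : ∀ j, ∃ (V : X.Opens) (hV : V ≤ O₀), y ∈ V ∧ M1.mres F (hV.trans l1) (f j) =
      ∑ k, M1.ores (hV.trans (l3 j k)) (d j k) • M1.mres F (hV.trans l2) (e k) := by
    intro j
    have e0 : F.presheaf.germ O₀ y hy₀ (M1.mres F l1 (f j)) =
        F.presheaf.germ O₀ y hy₀ (∑ k, M1.ores (l3 j k) (d j k) • M1.mres F l2 (e k)) := by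
      rw [M1.germ_mres, h j, map_sum]
      refine Finset.sum_congr rfl fun k _ => ?_
      rw [M1.germ_smul, M1.germ_mres]
      congr 1
      rw [← hd j k]
      exact (X.presheaf.germ_res_apply (homOfLE (l3 j k)) y hy₀ (d j k)).symm
    obtain ⟨V, hyV, i₁, i₂, he⟩ := F.presheaf.germ_eq y hy₀ hy₀ _ _ e0
    refine ⟨V, i₁.le, hyV, ?_⟩
    have he' : M1.mres F i₁.le (M1.mres F l1 (f j)) =
        M1.mres F i₁.le (∑ k, M1.ores (l3 j k) (d j k) • M1.mres F l2 (e k)) := he
    rw [M1.mres_mres] at he'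
    rw [he', show M1.mres F i₁.le (∑ k, M1.ores (l3 j k) (d j k) • M1.mres F l2 (e k)) =
      ∑ k, M1.mres F i₁.le (M1.ores (l3 j k) (d j k) • M1.mres F l2 (e k)) from map_sum _ _ _]
    refine Finset.sum_congr rfl fun k _ => ?_
    rw [M1.mres_smul, M1.mres_mres]
    congr 1
    exact (ConcreteCategory.congr_hom (X.presheaf.map_comp (homOfLE (l3 j k)).op (homOfLE i₁.le).op) (d j k)).symm
  choose V hV hyV hV' using heq
  have hmem' : ∀ T : Finset (Fin r), y ∈ T.inf V := by
    intro T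
    induction T using Finset.cons_induction with
    | empty => simp
    | cons a T _ ih => rw [Finset.inf_cons]; exact ⟨hyV a, ih⟩
  obtain ⟨Q, hQ, hyQ, hQle⟩ := exists_isAffineOpen_mem_and_subset (x := y) (U := O₀ ⊓ Finset.univ.inf V) ⟨hy₀, hmem' _⟩
  have q0 : Q ≤ O₀ := fun z hz => (hQle hz).1
  have qj : ∀ j, Q ≤ V j := fun j => (show Q ≤ Finset.univ.inf V from fun z hz => (hQle hz).2).trans (Finset.inf_le (Finset.mem_univ j))
  have hQj : ∀ j, M1.mres F (q0.trans l1) (f j) =
      ∑ k, M1.ores (q0.trans (l3 j k)) (d j k) • M1.mres F (q0.trans l2) (e k) := by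
    intro j
    have := congrArg (M1.mres F (qj j)) (hV' j)
    rw [M1.mres_mres] at this
    rw [this, show M1.mres F (qj j) (∑ k, M1.ores ((hV j).trans (l3 j k)) (d j k) • M1.mres F ((hV j).trans l2) (e k)) =
      ∑ k, M1.mres F (qj j) (M1.ores ((hV j).trans (l3 j k)) (d j k) • M1.mres F ((hV j).trans l2) (e k)) from map_sum _ _ _]
    refine Finset.sum_congr rfl fun k _ => ?_
    rw [M1.mres_smul, M1.mres_mres]
    congr 1
    exact (ConcreteCategory.congr_hom (X.presheaf.map_comp (homOfLE ((hV j).trans (l3 j k))).op (homOfLE (qj j)).op) (d j k)).symm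
  let D : Matrix (Fin r) (Fin r) Γ(X, Q) := fun j k => M1.ores (q0.trans (l3 j k)) (d j k)
  rw [← wg_mres hφ (V := ⟨Q, hQ⟩) (q0.trans l1) hyQ f, ← wg_mres hφ (V := ⟨Q, hQ⟩) (q0.trans l2) hyQ e, wg, wg,
    show (fun j => M1.mres F (q0.trans l1) (f j)) = fun j => ∑ k, D j k • M1.mres F (q0.trans l2) (e k) from funext hQj,
    alternating_comb (ιMulti Γ(X, Q) r) _ D, map_smul, M1.germ_smul]
  congr 1
  rw [show (X.presheaf.germ Q y hyQ) D.det = (X.presheaf.germ Q y hyQ).hom D.det from rfl, RingHom.map_det]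
  congr 1
  ext j k
  show X.presheaf.germ Q y hyQ (M1.ores (q0.trans (l3 j k)) (d j k)) = c j k
  rw [← hd j k]
  exact X.presheaf.germ_res_apply _ y hyQ (d j k)

/-- The wedge of generators generates. -/
theorem exists_smul_wg (hφ : Compat φ) [hW : Coh.IsQCoh W] {U : X.affineOpens} {y : X} (hy : y ∈ U.1)
    (e : Fin r → Γ(F, U.1))
    (hspan : ∀ v : F.presheaf.stalk y, ∃ c : Fin r → X.presheaf.stalk y, v = ∑ k, c k • F.presheaf.germ U.1 y hy (e k))
    (a : W.presheaf.stalk y) : ∃ t : X.presheaf.stalk y, t • wg φ U hy e = a := by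
  obtain ⟨s, m, hs, hm⟩ := M1.exists_germ_smul_eq W U.2 hy a
  obtain ⟨u, hu⟩ := hs
  have key : ∀ z : ↥(⋀[Γ(X, U.1)]^r Γ(F, U.1)), ∃ t : X.presheaf.stalk y,
      t • wg φ U hy e = W.presheaf.germ U.1 y hy ((φ U).symm z) := by
    intro z
    have hz : z ∈ Submodule.span Γ(X, U.1) (Set.range (ιMulti Γ(X, U.1) r (M := Γ(F, U.1)))) := by
      rw [exteriorPower.ιMulti_span]; trivial
    induction hz using Submodule.span_induction with
    | mem z hz =>
      obtain ⟨f, rfl⟩ := hz
      choose c hc using fun j => hspan (F.presheaf.germ U.1 y hy (f j))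
      exact ⟨(Matrix.of c).det, (wg_det hφ hy hy f e (Matrix.of c) hc).symm⟩
    | zero => exact ⟨0, by rw [map_zero, map_zero, zero_smul]⟩
    | add v w _ _ hv hw =>
      obtain ⟨t, ht⟩ := hv
      obtain ⟨t', ht'⟩ := hw
      exact ⟨t + t', by rw [add_smul, ht, ht', map_add, map_add]⟩
    | smul c v _ hv =>
      obtain ⟨t, ht⟩ := hv
      exact ⟨X.presheaf.germ U.1 y hy c * t, by rw [mul_smul, ht, map_smul, M1.germ_smul]⟩
  obtain ⟨t, ht⟩ := key (φ U m)
  rw [LinearEquiv.symm_apply_apply, ← hm, ← hu] at ht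
  exact ⟨(↑u⁻¹ : X.presheaf.stalk y) * t, by rw [mul_smul, ht, ← mul_smul, Units.inv_mul, one_smul]⟩

variable [IsIntegral X]

/-- The germ at the generic point of the wedge of a basis generates. -/
theorem gen_wg_generic (hφ : Compat φ) [hW : Coh.IsQCoh W] {U : X.affineOpens} (hη : genericPoint X ∈ U.1)
    (e : Fin r → Γ(F, U.1)) (b : Module.Basis (Fin r) (X.presheaf.stalk (genericPoint X)) (F.presheaf.stalk (genericPoint X)))
    (hb : ∀ k, b k = F.presheaf.germ U.1 (genericPoint X) hη (e k)) : Amp.Gen (wg φ U hη e) := by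
  classical
  have hspan : ∀ v : F.presheaf.stalk (genericPoint X), ∃ c : Fin r → X.presheaf.stalk (genericPoint X),
      v = ∑ k, c k • F.presheaf.germ U.1 (genericPoint X) hη (e k) := fun v =>
    ⟨fun k => b.repr v k, by simp only [← hb, b.sum_repr]⟩
  refine ⟨fun s t hst => ?_, exists_smul_wg hφ hη e hspan⟩
  simp only at hst
  by_contra hne
  obtain ⟨c, hc⟩ := (RH26.isField_η (X := X)).mul_inv_cancel (sub_ne_zero.2 hne)
  have h0 : wg φ U hη e = 0 := by
    rw [← one_smul (X.presheaf.stalk (genericPoint X)) (wg φ U hη e), ← hc, mul_comm, mul_smul, sub_smul, hst,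
      sub_self, smul_zero]
  obtain ⟨q, hq, hq0⟩ := M1.exists_smul_eq_zero_of_germ_eq_zero W U.2 hη _ h0
  have h1 : q • ιMulti Γ(X, U.1) r e = 0 := by
    have := congrArg (φ U) hq0
    rwa [map_smul, LinearEquiv.apply_symm_apply, map_zero] at this
  let gA : Γ(X, U.1) →+* X.presheaf.stalk (genericPoint X) := (X.presheaf.germ U.1 (genericPoint X) hη).hom
  letI : Algebra Γ(X, U.1) (X.presheaf.stalk (genericPoint X)) := gA.toAlgebra
  letI : Module Γ(X, U.1) (F.presheaf.stalk (genericPoint X)) := Module.compHom _ gA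
  haveI : IsScalarTower Γ(X, U.1) (X.presheaf.stalk (genericPoint X)) (F.presheaf.stalk (genericPoint X)) :=
    ⟨fun a s v => by show (gA a * s) • v = gA a • s • v; rw [mul_smul]⟩
  let G : Γ(F, U.1) →ₗ[Γ(X, U.1)] F.presheaf.stalk (genericPoint X) :=
    { toFun := fun m => F.presheaf.germ U.1 (genericPoint X) hη m
      map_add' := map_add _
      map_smul' := fun a m => M1.germ_smul F hη a m }
  exact hq.ne_zero (algebraMap_eq_zero_of_smul_ιMulti b G e (fun k => (hb k).symm) h1)

/-- The wedge of generators generates freely. -/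
theorem gen_wg (hφ : Compat φ) [hW : Coh.IsQCoh W] {U : X.affineOpens} {y : X} (hy : y ∈ U.1)
    (e : Fin r → Γ(F, U.1))
    (hspan : ∀ v : F.presheaf.stalk y, ∃ c : Fin r → X.presheaf.stalk y, v = ∑ k, c k • F.presheaf.germ U.1 y hy (e k))
    (b : Module.Basis (Fin r) (X.presheaf.stalk (genericPoint X)) (F.presheaf.stalk (genericPoint X)))
    (hb : ∀ k, b k = F.presheaf.stalkSpecializes (RH26.gsp y) (F.presheaf.germ U.1 y hy (e k))) :
    Amp.Gen (wg φ U hy e) ∧
      W.presheaf.stalkSpecializes (RH26.gsp y) (wg φ U hy e) = wg φ U (RH26.mem_of_genericPoint U.1 hy) e := by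
  have hsp : W.presheaf.stalkSpecializes (RH26.gsp y) (wg φ U hy e) = wg φ U (RH26.mem_of_genericPoint U.1 hy) e :=
    TopCat.Presheaf.germ_stalkSpecializes_apply _ _ _ _
  have hη := gen_wg_generic hφ (RH26.mem_of_genericPoint U.1 hy) e b fun k => (hb k).trans
    (TopCat.Presheaf.germ_stalkSpecializes_apply _ _ _ _)
  refine ⟨⟨fun s t hst => RH26.sp_injective y (hη.1 ?_), exists_smul_wg hφ hy e hspan⟩, hsp⟩
  have := congrArg (W.presheaf.stalkSpecializes (RH26.gsp y)) hst
  simp only [Cyc26.stalkSpecializes_smul, hsp] at this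
  exact this

end Groth.Agent.RefCh12
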