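import Groth.Agent.Lib.RefCh12.Twist
import Groth.Agent.Lib.RefCh12.Wedge
import Groth.Agent.Lib.Lattice26.DetCokerGlobal
import Groth.Agent.Lib.RefHull26.GenFree
import Mathlib.RingTheory.OrderOfVanishing.Basic

/-! # The determinant class of a torsion free module -/

set_option autoImplicit false
set_option linter.style.haveILetI false
set_option backward.isDefEq.respectTransparency false
set_option backward.isDefEq.respectTransparency.types false
universe u

open CategoryTheory CategoryTheory.Limits AlgebraicGeometry TopologicalSpace TensorProduct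

noncomputable section

namespace Groth.Agent.RefCh12

open CurveCoh17 (stalkLin)

variable {X : Scheme.{u}}

/-- Tensoring a stalk with a generator. -/
def twEquiv (F : X.Modules) {M : X.Modules} {x : X} {m : M.presheaf.stalk x} (hm : Amp.Gen m) :
    F.presheaf.stalk x ≃ₗ[X.presheaf.stalk x] (CohB1.tensorMod F M).presheaf.stalk x :=
  (TensorProduct.rid (X.presheaf.stalk x) (F.presheaf.stalk x)).symm.trans
    ((TensorProduct.congr (LinearEquiv.refl _ _) (RH26.genEquiv hm)).trans (M2.stalkEquiv F M x).symm)

theorem twEquiv_apply (F : X.Modules) {M : X.Modules} {x : X} {m : M.presheaf.stalk x} (hm : Amp.Gen m)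
    (v : F.presheaf.stalk x) : twEquiv F hm v = Cyc26.tstalk F M x v m := by
  simp [twEquiv, Cyc26.tstalk, RH26.genEquiv_apply]

/-- The cokernel of a map with a matrix in given coordinates. -/
theorem coker_matrix {W G : X.Modules} (φ : W ⟶ G) {x : X} [IsDomain (X.presheaf.stalk x)] [IsNoetherianRing (X.presheaf.stalk x)]
    {r : ℕ} (A : Matrix (Fin r) (Fin r) (X.presheaf.stalk x)) (hA : A.det ≠ 0)
    (S : (Fin r → X.presheaf.stalk x) ≃ₗ[X.presheaf.stalk x] W.presheaf.stalk x)
    (E : (Fin r → X.presheaf.stalk x) ≃ₗ[X.presheaf.stalk x] G.presheaf.stalk x)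
    (h : ∀ c, stalkLin φ x (S c) = E (Lattice26.mulAct A (X.presheaf.stalk x) c)) :
    Function.Injective (stalkLin φ x) ∧
      Module.length (X.presheaf.stalk x) ((cokernel φ).presheaf.stalk x) = Ring.ord (X.presheaf.stalk x) A.det := by
  classical
  have hinj : Function.Injective (Lattice26.mulAct A (X.presheaf.stalk x)) := fun c c' e => by
    have h1 := congrArg (Lattice26.mulAct A.adjugate (X.presheaf.stalk x)) e
    rw [Lattice26.mulAct_mulAct, Lattice26.mulAct_mulAct, Matrix.adjugate_mul] at h1
    funext i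
    have h2 := congrFun h1 i
    simp only [Lattice26.mulAct_apply, Matrix.smul_apply, Matrix.one_apply, smul_eq_mul, mul_ite, mul_one,
      mul_zero, ite_mul, zero_mul, Finset.sum_ite_eq, Finset.mem_univ, if_true] at h2
    exact mul_left_cancel₀ hA h2
  refine ⟨fun v v' e => ?_, ?_⟩
  · obtain ⟨c, rfl⟩ := S.surjective v
    obtain ⟨c', rfl⟩ := S.surjective v'
    rw [h, h] at e
    rw [hinj (E.injective e)]
  have hex : Function.Exact (stalkLin φ x) (stalkLin (cokernel.π φ) x) := by
    have h1 : (ShortComplex.mk φ (cokernel.π φ) (cokernel.condition φ)).Exact :=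
      ShortComplex.exact_of_g_is_cokernel _ (cokernelIsCokernel φ)
    exact (ShortComplex.ab_exact_iff_function_exact _).1 (h1.map (M1.stalkAb x))
  let q := (stalkLin (cokernel.π φ) x).comp E.toLinearMap
  have hq : Function.Surjective q := fun a => by
    obtain ⟨b, hb⟩ := (M1.epi_iff_stalk (cokernel.π φ)).1 inferInstance x a
    exact ⟨E.symm b, (congrArg (stalkLin (cokernel.π φ) x) (E.apply_symm_apply b)).trans hb⟩
  have hker : LinearMap.ker q = LinearMap.range (Lattice26.mulAct A (X.presheaf.stalk x)) := by
    ext v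
    constructor
    · intro hv
      obtain ⟨w, hw⟩ := (hex (E v)).1 hv
      obtain ⟨c, rfl⟩ := S.surjective w
      rw [h] at hw
      exact ⟨c, E.injective hw⟩
    · rintro ⟨c, rfl⟩
      exact (hex _).2 ⟨S c, h c⟩
  rw [← ((Submodule.quotEquivOfEq _ _ hker.symm).trans (q.quotKerEquivOfSurjective hq)).length_eq,
    Lattice26.length_coker_eq_det A (mem_nonZeroDivisors_of_ne_zero hA)]
  rfl

/-- Common sections for finitely many germs. -/
theorem exists_affine_sections {F : X.Modules} {y : X} {r : ℕ} (v : Fin r → F.presheaf.stalk y) :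
    ∃ (U : X.affineOpens) (hy : y ∈ U.1) (e : Fin r → Γ(F, U.1)), ∀ i, F.presheaf.germ U.1 y hy (e i) = v i := by
  classical
  choose O hO t ht using fun i => F.presheaf.exists_germ_eq (v i)
  have hmem : ∀ T : Finset (Fin r), y ∈ T.inf O := by
    intro T
    induction T using Finset.cons_induction with
    | empty => simp
    | cons a T _ ih => rw [Finset.inf_cons]; exact ⟨hO a, ih⟩
  obtain ⟨U, hU, hyU, hUle⟩ := exists_isAffineOpen_mem_and_subset (hmem Finset.univ)
  have hle : ∀ i, U ≤ O i := fun i => (show U ≤ Finset.univ.inf O from hUle).trans (Finset.inf_le (Finset.mem_univ i))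
  exact ⟨⟨U, hU⟩, hyU, fun i => M1.mres F (hle i) (t i), fun i => by rw [M1.germ_mres, ht i]⟩

variable [IsIntegral X]

/-- A basis of the stalk giving a basis of the generic stalk. -/
theorem exists_basis_sp {F : X.Modules} (hF : Coh.IsQCoh F) (hFT : CohB1.IsFT F) {x : X}
    [IsPrincipalIdealRing (X.presheaf.stalk x)] [Module.IsTorsionFree (X.presheaf.stalk x) (F.presheaf.stalk x)]
    {r : ℕ} (hr : Module.finrank (X.presheaf.stalk (genericPoint X)) (F.presheaf.stalk (genericPoint X)) = r) :
    ∃ (e : Module.Basis (Fin r) (X.presheaf.stalk x) (F.presheaf.stalk x))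
      (b : Module.Basis (Fin r) (X.presheaf.stalk (genericPoint X)) (F.presheaf.stalk (genericPoint X))),
      ∀ k, b k = F.presheaf.stalkSpecializes (RH26.gsp x) (e k) := by
  classical
  haveI := M1.finite_stalk hF hFT x
  haveI : Module.Free (X.presheaf.stalk x) (F.presheaf.stalk x) := Module.free_of_finite_type_torsion_free'
  let e₀ := Module.Free.chooseBasis (X.presheaf.stalk x) (F.presheaf.stalk x)
  let ι := Module.Free.ChooseBasisIndex (X.presheaf.stalk x) (F.presheaf.stalk x)
  let sp := F.presheaf.stalkSpecializes (RH26.gsp x)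
  have hspsum : ∀ (a : ι → X.presheaf.stalk x),
      F.presheaf.stalkSpecializes (RH26.gsp x) (∑ i, a i • e₀ i) =
        ∑ i, X.presheaf.stalkSpecializes (RH26.gsp x) (a i) • F.presheaf.stalkSpecializes (RH26.gsp x) (e₀ i) := fun a => by
    rw [map_sum]
    exact Finset.sum_congr rfl fun i _ => by rw [Cyc26.stalkSpecializes_smul]
  have hli : LinearIndependent (X.presheaf.stalk (genericPoint X))
      fun i => F.presheaf.stalkSpecializes (RH26.gsp x) (e₀ i) := by
    rw [Fintype.linearIndependent_iff]
    intro c hc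
    obtain ⟨d, hd⟩ := IsLocalization.exist_integer_multiples (nonZeroDivisors (X.presheaf.stalk x)) (S := X.functionField) Finset.univ c
    choose a ha using fun i => hd i (Finset.mem_univ i)
    have ha' : ∀ i, X.presheaf.stalkSpecializes (RH26.gsp x) (a i) = X.presheaf.stalkSpecializes (RH26.gsp x) d.1 * c i :=
      fun i => (ha i).trans (Algebra.smul_def _ _)
    have h0 : F.presheaf.stalkSpecializes (RH26.gsp x) (∑ i, a i • e₀ i) = F.presheaf.stalkSpecializes (RH26.gsp x) 0 := by
      rw [hspsum, map_zero]
      simp only [ha', mul_smul, ← Finset.smul_sum]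
      exact (congrArg _ hc).trans (smul_zero _)
    have h1 := Fintype.linearIndependent_iff.1 e₀.linearIndependent a (RH26.injective_sp_of_isTorsionFree hF x h0)
    intro i
    have h2 := ha' i
    rw [h1 i, map_zero] at h2
    refine (mul_eq_zero.1 h2.symm).resolve_left fun h3 => nonZeroDivisors.ne_zero d.2 ?_
    exact RH26.sp_injective x (h3.trans (map_zero _).symm)
  have hspan : ⊤ ≤ Submodule.span (X.presheaf.stalk (genericPoint X))
      (Set.range fun i => F.presheaf.stalkSpecializes (RH26.gsp x) (e₀ i)) := by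
    intro w _
    obtain ⟨t, v, ht, he⟩ := RH26.exists_smul_eq_sp hF (RH26.gsp x) w
    obtain ⟨u, hu⟩ := ht
    have hw : w = (↑u⁻¹ : X.presheaf.stalk (genericPoint X)) • F.presheaf.stalkSpecializes (RH26.gsp x) v := by
      rw [← he, ← hu, ← mul_smul, Units.inv_mul, one_smul]
    rw [hw, ← e₀.sum_repr v, hspsum]
    refine Submodule.smul_mem _ _ (Submodule.sum_mem _ fun i _ => Submodule.smul_mem _ _ (Submodule.subset_span ⟨i, rfl⟩))
  let b₀ := Module.Basis.mk hli hspan
  have hcard : Fintype.card ι = r := by
    haveI : Nontrivial (X.presheaf.stalk (genericPoint X)) := inferInstance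
    rw [← hr]
    exact (Module.finrank_eq_card_basis b₀).symm
  let σ := Fintype.equivFinOfCardEq hcard
  refine ⟨e₀.reindex σ, b₀.reindex σ, fun k => ?_⟩
  simp only [Module.Basis.reindex_apply, b₀, Module.Basis.mk_apply]

end Groth.Agent.RefCh12
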