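import Mathlib.Algebra.Module.FinitePresentation
import Mathlib.LinearAlgebra.Dual.BaseChange
import Mathlib.RingTheory.Flat.Basic

/-! # Duals and flat base change -/

set_option autoImplicit false
set_option backward.isDefEq.respectTransparency.types false
universe u

open TensorProduct

namespace Groth.Agent.RefCh12

variable {A B : Type u} [CommRing A] [CommRing B] [Algebra A B] [Module.Flat A B]
  {M N : Type u} [AddCommGroup M] [Module A M] [AddCommGroup N] [Module A N]

theorem isBaseChange_moduleDual [Module.FinitePresentation A M] :
    IsBaseChange B (Module.Dual.baseChange B : Module.Dual A M →ₗ[A] Module.Dual B (B ⊗[A] M)) := by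
  let E : ((B ⊗[A] M) →ₗ[B] (B ⊗[A] A)) ≃ₗ[B] Module.Dual B (B ⊗[A] M) :=
    LinearEquiv.congrRight (AlgebraTensorModule.rid A B B)
  refine IsBaseChange.of_equiv ((Module.FinitePresentation.isBaseChange_map A M A B).equiv.trans E) fun f => ?_
  rw [LinearEquiv.trans_apply, IsBaseChange.equiv_tmul, one_smul]
  rfl

theorem dualMap_equiv [Module.FinitePresentation A M] [Module.FinitePresentation A N] (f : M →ₗ[A] N)
    (z : B ⊗[A] Module.Dual A N) :
    (f.baseChange B).dualMap ((isBaseChange_moduleDual (B := B) (M := N)).equiv z) =
      (isBaseChange_moduleDual (B := B) (M := M)).equiv (f.dualMap.baseChange B z) := by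
  induction z using TensorProduct.induction_on with
  | zero => simp
  | tmul b φ =>
    rw [IsBaseChange.equiv_tmul, LinearMap.baseChange_tmul, IsBaseChange.equiv_tmul]
    refine LinearMap.ext fun w => ?_
    induction w using TensorProduct.induction_on with
    | zero => simp
    | tmul c m => simp [Module.Dual.baseChange_apply_tmul]
    | add x y hx hy => rw [map_add, map_add, hx, hy]
  | add x y hx hy => simp [map_add, hx, hy]

/-- Flat base change preserves bijectivity of transposes. -/
theorem bijective_dualMap_baseChange [Module.FinitePresentation A M] [Module.FinitePresentation A N] (f : M →ₗ[A] N)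
    (h : Function.Bijective f.dualMap) : Function.Bijective (f.baseChange B).dualMap := by
  let e := LinearEquiv.ofBijective f.dualMap h
  have h1 : Function.Bijective (f.dualMap.baseChange B) := by
    have : f.dualMap.baseChange B = (e.baseChange A B _ _).toLinearMap := by
      refine TensorProduct.AlgebraTensorModule.ext fun b φ => ?_
      rfl
    rw [this]
    exact (e.baseChange A B _ _).bijective
  have h2 : (f.baseChange B).dualMap ∘ (isBaseChange_moduleDual (B := B) (M := N)).equiv =
      (isBaseChange_moduleDual (B := B) (M := M)).equiv ∘ f.dualMap.baseChange B := funext (dualMap_equiv f)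
  refine (Function.Bijective.of_comp_iff _ (isBaseChange_moduleDual (B := B) (M := N)).equiv.bijective).1 ?_
  rw [h2]
  exact (LinearEquiv.bijective _).comp h1

/-- Flat base change preserves reflexivity. -/
theorem isReflexive_baseChange [Module.FinitePresentation A M] [Module.FinitePresentation A (Module.Dual A M)]
    [Module.IsReflexive A M] : Module.IsReflexive B (B ⊗[A] M) := by
  let eM := (isBaseChange_moduleDual (A := A) (B := B) (M := M)).equiv
  let eD := (isBaseChange_moduleDual (A := A) (B := B) (M := Module.Dual A M)).equiv
  let ev := (Module.evalEquiv A M).baseChange A B _ _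
  have key : ⇑(Module.Dual.eval B (B ⊗[A] M)) = eM.symm.dualMap ∘ eD ∘ ev := by
    refine funext fun w => ?_
    induction w using TensorProduct.induction_on with
    | zero => simp
    | add x y hx hy => simp only [Function.comp_apply] at hx hy ⊢; rw [map_add, map_add, map_add, map_add, hx, hy]
    | tmul b m =>
      refine LinearMap.ext fun ψ => ?_
      obtain ⟨z, rfl⟩ := eM.surjective ψ
      simp only [Function.comp_apply, LinearEquiv.dualMap_apply, LinearEquiv.symm_apply_apply, Module.Dual.eval_apply]
      induction z using TensorProduct.induction_on with
      | zero => simp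
      | add x y hx hy => simp only [map_add, LinearMap.add_apply, hx, hy]
      | tmul c φ =>
        simp only [eM, eD, ev, IsBaseChange.equiv_tmul, LinearEquiv.baseChange_tmul, LinearMap.smul_apply,
          Module.Dual.baseChange_apply_tmul, Module.evalEquiv_apply, Module.Dual.eval_apply, map_smul]
        simp [smul_eq_mul, mul_comm, mul_left_comm]
  refine ⟨?_⟩
  rw [key]
  exact eM.symm.dualMap.bijective.comp (eD.bijective.comp ev.bijective)

end Groth.Agent.RefCh12
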