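import Groth.Agent.Lib.RefCh12.DualBC
import Groth.Agent.Lib.RefHull26.Algebra
import Groth.Agent.Lib.RefHull26.ClassLaw
import Groth.Agent.Lib.TensorMod.PullStalk
import Groth.Agent.Lib.ModM1.Pull
import Groth.Prelude.Def_Pi1

/-! # Reflexive hulls commute with flat pull-back -/

set_option autoImplicit false
set_option linter.style.haveILetI false
set_option backward.isDefEq.respectTransparency false
set_option backward.isDefEq.respectTransparency.types false
universe u

open CategoryTheory AlgebraicGeometry TopologicalSpace Opposite TensorProduct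

noncomputable section

namespace Groth.Agent.RefCh12

variable {X Y : Scheme.{u}}

/-- The transpose of a morphism. -/
theorem exists_dualMap [IsLocallyNoetherian X] {F G : X.Modules} (φ : F ⟶ G) (hF : Coh.IsCoh F) (hG : Coh.IsCoh G) :
    ∃ ψ : RefHull.dual G ⟶ RefHull.dual F, ∀ (x : X) (θ : (RefHull.dual G).presheaf.stalk x),
      RH26.dualEquiv hF x (RefHull.stalkMapₗ ψ x θ) = (RefHull.stalkMapₗ φ x).dualMap (RH26.dualEquiv hG x θ) := by
  let f : ∀ x : X, RefHull.StalkHom (RefHull.dual G) (RefHull.dual F) x := fun x =>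
    ((RH26.dualEquiv hF x).symm.toLinearMap.comp (RefHull.stalkMapₗ φ x).dualMap).comp (RH26.dualEquiv hG x).toLinearMap
  obtain ⟨ψ, hψ⟩ := RH26.exists_hom_of_stalkFamily (RefHull.dual G) (RefHull.dual F) f fun V m x hx => by
    let n : Γ(RefHull.dual F, V) := ⟨fun y => (m.1 y).comp (RefHull.stalkMapₗ φ y.1), fun W i a y => by
      obtain ⟨W', hW', j, c, hc⟩ := RefHull.isLocSect_of_mem m W i (φ.app W a) y
      refine ⟨W', hW', j, c, fun z => ?_⟩
      rw [LinearMap.comp_apply, RefHull.stalkMapₗ_germ]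
      exact hc z⟩
    refine ⟨V, hx, le_rfl, n, fun y hy => (RH26.dualEquiv hF y).injective ?_⟩
    show _ = RH26.dualEquiv hF y ((RH26.dualEquiv hF y).symm ((RefHull.stalkMapₗ φ y).dualMap (RH26.dualEquiv hG y _)))
    rw [LinearEquiv.apply_symm_apply]
    refine LinearMap.ext fun v => ?_
    rw [LinearMap.dualMap_apply, RH26.dualEquiv_apply, RH26.dualEquiv_apply, RefHull.evalStalk_germ, RefHull.evalStalk_germ]
    rfl
  refine ⟨ψ, fun x θ => ?_⟩
  rw [hψ]
  exact LinearEquiv.apply_symm_apply _ _

/-- A morphism with bijective transposes on stalks has invertible transpose. -/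
theorem exists_dual_iso [IsLocallyNoetherian X] {F G : X.Modules} (φ : F ⟶ G) (hF : Coh.IsCoh F) (hG : Coh.IsCoh G)
    (h : ∀ x, Function.Bijective (RefHull.stalkMapₗ φ x).dualMap) : Nonempty (RefHull.dual G ≅ RefHull.dual F) := by
  obtain ⟨ψ, hψ⟩ := exists_dualMap φ hF hG
  haveI : IsIso ψ := (RH26.isIso_iff_stalkMapₗ ψ).2 fun x => by
    refine ((RH26.dualEquiv hF x).bijective.of_comp_iff' _).1 ?_
    rw [show ⇑(RH26.dualEquiv hF x) ∘ ⇑(RefHull.stalkMapₗ ψ x) = (RefHull.stalkMapₗ φ x).dualMap ∘ RH26.dualEquiv hG x from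
      funext (hψ x)]
    exact (h x).comp (RH26.dualEquiv hG x).bijective
  exact ⟨asIso ψ⟩

theorem ddual_congr [IsLocallyNoetherian X] {F G : X.Modules} (hF : Coh.IsCoh F) (e : F ≅ G) :
    Nonempty (RefHull.ddual F ≅ RefHull.ddual G) := by
  have hb : ∀ {A B : X.Modules} (e : A ≅ B) (x : X), Function.Bijective (RefHull.stalkMapₗ e.hom x).dualMap :=
    fun e x => (LinearEquiv.ofBijective _ ((RH26.isIso_iff_stalkMapₗ e.hom).1 inferInstance x)).dualMap.bijective
  have hG := CohFound.isCoh_of_iso e hF
  obtain ⟨d⟩ := exists_dual_iso e.hom hF hG (hb e)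
  exact exists_dual_iso d.hom (RH26.isCoh_dual hG) (RH26.isCoh_dual hF) (hb d)

/-- The double transpose of the biduality map is invertible over a domain. -/
theorem bijective_dualMap_bidual [IsLocallyNoetherian X] {F : X.Modules} (hF : Coh.IsCoh F) (x : X)
    [IsDomain (X.presheaf.stalk x)] :
    Function.Bijective (RefHull.stalkMapₗ (RefHull.bidualMap F) x).dualMap := by
  haveI := M1.finite_stalk hF.1 (M1.isFP_isFT (M1.isFP_of_isCoh hF)) x
  let C : (RefHull.ddual F).presheaf.stalk x ≃ₗ[X.presheaf.stalk x] Module.Dual (X.presheaf.stalk x) (Module.Dual (X.presheaf.stalk x) (F.presheaf.stalk x)) :=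
    (RH26.dualEquiv (RH26.isCoh_dual hF) x).trans (RH26.dualEquiv hF x).symm.dualMap
  have key : C.toLinearMap.comp (RefHull.stalkMapₗ (RefHull.bidualMap F) x) = Module.Dual.eval _ _ := by
    refine LinearMap.ext fun v => LinearMap.ext fun ξ => ?_
    obtain ⟨θ, rfl⟩ := (RH26.dualEquiv hF x).surjective ξ
    show RH26.dualEquiv (RH26.isCoh_dual hF) x (RefHull.stalkMapₗ (RefHull.bidualMap F) x v)
      ((RH26.dualEquiv hF x).symm (RH26.dualEquiv hF x θ)) = _
    rw [LinearEquiv.symm_apply_apply, RH26.dualEquiv_apply, RH26.evalStalk_bidualMap, Module.Dual.eval_apply,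
      RH26.dualEquiv_apply]
    rfl
  have hev : Function.Bijective (Module.Dual.eval (X.presheaf.stalk x) (F.presheaf.stalk x)).dualMap := by
    haveI : Module.IsReflexive (X.presheaf.stalk x) (Module.Dual (X.presheaf.stalk x) (F.presheaf.stalk x)) :=
      RH26.isReflexive_dual
    have : ⇑(Module.Dual.eval (X.presheaf.stalk x) (F.presheaf.stalk x)).dualMap =
        (Module.evalEquiv (X.presheaf.stalk x) (Module.Dual (X.presheaf.stalk x) (F.presheaf.stalk x))).symm := funext fun z => by
      obtain ⟨ξ, rfl⟩ := (Module.evalEquiv _ (Module.Dual (X.presheaf.stalk x) (F.presheaf.stalk x))).surjective z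
      rw [LinearEquiv.symm_apply_apply]
      rfl
    rw [this]
    exact LinearEquiv.bijective _
  rw [← key, show (C.toLinearMap.comp (RefHull.stalkMapₗ (RefHull.bidualMap F) x)).dualMap =
    (RefHull.stalkMapₗ (RefHull.bidualMap F) x).dualMap.comp C.dualMap.toLinearMap from rfl, LinearMap.coe_comp] at hev
  exact (Function.Bijective.of_comp_iff _ C.dualMap.bijective).1 hev

/-- Pull-back on stalks is base change, naturally. -/
theorem stalk_pullback_map (π : Y ⟶ X) {F G : X.Modules} (φ : F ⟶ G) (y : Y) (z : M2.BC π y F) :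
    RefHull.stalkMapₗ ((Scheme.Modules.pullback π).map φ) y (M2.pullStalkEquiv π y F z) =
      M2.pullStalkEquiv π y G ((RefHull.stalkMapₗ φ (π y)).baseChange (Y.presheaf.stalk y) z) := by
  induction z using TensorProduct.induction_on with
  | zero => simp only [map_zero]
  | add a b ha hb => simp only [map_add, ha, hb]
  | tmul b a =>
    obtain ⟨U, hU, s, rfl⟩ := F.presheaf.germ_exist a
    have e : ∀ (H : X.Modules) (t : H.presheaf.stalk (π y)),
        (b ⊗ₜ[X.presheaf.stalk (π y)] t : M2.BC π y H) = b • ((1 : Y.presheaf.stalk y) ⊗ₜ[X.presheaf.stalk (π y)] t) := fun H t => by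
      rw [TensorProduct.smul_tmul', smul_eq_mul, mul_one]
    rw [LinearMap.baseChange_tmul, e F, e G, map_smul, map_smul, map_smul, M2.pullStalkEquiv_tmul, RefHull.stalkMapₗ_germ,
      RefHull.stalkMapₗ_germ, M2.pullStalkEquiv_tmul]
    refine congrArg (fun w => b • ((Scheme.Modules.pullback π).obj G).presheaf.germ (π ⁻¹ᵁ U) y hU w) ?_
    have h := congrArg (fun ψ => ψ.app U s) ((Scheme.Modules.pullbackPushforwardAdjunction π).unit.naturality φ)
    exact h.symm

variable [IsLocallyNoetherian X] [IsLocallyNoetherian Y] (π : Y ⟶ X) [Flat π]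

theorem finitePresentation_stalk {F : X.Modules} (hF : Coh.IsCoh F) (x : X) :
    Module.FinitePresentation (X.presheaf.stalk x) (F.presheaf.stalk x) := by
  haveI := M1.finite_stalk hF.1 (M1.isFP_isFT (M1.isFP_of_isCoh hF)) x
  exact Module.finitePresentation_of_finite _ _

/-- Reflexive hulls commute with flat pull-back from a normal scheme. -/
theorem ddual_pullback (hX : ∀ x : X, IsDomain (X.presheaf.stalk x)) {P : X.Modules} (hP : Coh.IsCoh P) :
    Nonempty (RefHull.ddual ((Scheme.Modules.pullback π).obj P) ≅ (Scheme.Modules.pullback π).obj (RefHull.ddual P)) := by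
  have hdd := RH26.isCoh_dual (RH26.isCoh_dual hP)
  have hP' := M1.isCoh_pullback π hP
  have hQ := M1.isCoh_pullback π hdd
  let θ := (Scheme.Modules.pullback π).map (RefHull.bidualMap P)
  have hθ : ∀ y, Function.Bijective (RefHull.stalkMapₗ θ y).dualMap := fun y => by
    haveI := hX (π y)
    haveI := finitePresentation_stalk hP (π y)
    haveI := finitePresentation_stalk hdd (π y)
    haveI : Module.Flat (X.presheaf.stalk (π y)) (Y.presheaf.stalk y) := Flat.stalkMap π y
    have hb := bijective_dualMap_baseChange (B := Y.presheaf.stalk y) _ (bijective_dualMap_bidual hP (π y))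
    have he : RefHull.stalkMapₗ θ y = ((M2.pullStalkEquiv π y (RefHull.ddual P)).toLinearMap.comp
        ((RefHull.stalkMapₗ (RefHull.bidualMap P) (π y)).baseChange (Y.presheaf.stalk y))).comp
        (M2.pullStalkEquiv π y P).symm.toLinearMap := LinearMap.ext fun v => by
      obtain ⟨z, rfl⟩ := (M2.pullStalkEquiv π y P).surjective v
      simp only [LinearMap.comp_apply, LinearEquiv.coe_coe, LinearEquiv.symm_apply_apply]
      exact stalk_pullback_map π (RefHull.bidualMap P) y z
    rw [he]
    exact (M2.pullStalkEquiv π y P).symm.dualMap.bijective.comp (hb.comp (M2.pullStalkEquiv π y (RefHull.ddual P)).dualMap.bijective)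
  obtain ⟨d⟩ := exists_dual_iso θ hP' hQ hθ
  have hb : ∀ x : Y, Function.Bijective (RefHull.stalkMapₗ d.hom x).dualMap := fun x =>
    (LinearEquiv.ofBijective _ ((RH26.isIso_iff_stalkMapₗ d.hom).1 inferInstance x)).dualMap.bijective
  obtain ⟨d2⟩ := exists_dual_iso d.hom (RH26.isCoh_dual hQ) (RH26.isCoh_dual hP') hb
  have hR : RefHull.IsReflexive ((Scheme.Modules.pullback π).obj (RefHull.ddual P)) := by
    refine (RH26.isReflexive_iff_stalks hQ).2 fun y => ?_
    haveI := hX (π y)
    haveI := finitePresentation_stalk hdd (π y)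
    haveI := M1.finite_stalk hdd.1 (M1.isFP_isFT (M1.isFP_of_isCoh hdd)) (π y)
    haveI := RH26.finite_dual (R := X.presheaf.stalk (π y)) (M := (RefHull.ddual P).presheaf.stalk (π y))
    haveI := Module.finitePresentation_of_finite (X.presheaf.stalk (π y))
      (Module.Dual (X.presheaf.stalk (π y)) ((RefHull.ddual P).presheaf.stalk (π y)))
    haveI : Module.IsReflexive (X.presheaf.stalk (π y)) ((RefHull.ddual P).presheaf.stalk (π y)) := by
      haveI := M1.finite_stalk (RH26.isCoh_dual hP).1 (M1.isFP_isFT (M1.isFP_of_isCoh (RH26.isCoh_dual hP))) (π y)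
      haveI := RH26.isReflexive_dual (R := X.presheaf.stalk (π y)) (M := (RefHull.dual P).presheaf.stalk (π y))
      exact Module.equiv (RH26.dualEquiv (RH26.isCoh_dual hP) (π y)).symm
    haveI : Module.Flat (X.presheaf.stalk (π y)) (Y.presheaf.stalk y) := Flat.stalkMap π y
    haveI := isReflexive_baseChange (A := X.presheaf.stalk (π y)) (B := Y.presheaf.stalk y) (M := (RefHull.ddual P).presheaf.stalk (π y))
    exact Module.equiv (M2.pullStalkEquiv π y (RefHull.ddual P))
  haveI : IsIso (RefHull.bidualMap ((Scheme.Modules.pullback π).obj (RefHull.ddual P))) := hR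
  exact ⟨d2 ≪≫ (asIso (RefHull.bidualMap _)).symm⟩

end Groth.Agent.RefCh12
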