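import Groth.Agent.Lib.RefCh12.FrobRef
import Groth.Agent.Lib.RefCh12.DetClass
import Groth.Agent.Lib.Wedge2.Exists
import Groth.Agent.Lib.Wedge2.Props
import Mathlib.RingTheory.TensorProduct.Free

/-! # Determinants of reflexive Frobenius pull-backs -/

set_option autoImplicit false
set_option linter.style.haveILetI false
set_option backward.isDefEq.respectTransparency false
set_option backward.isDefEq.respectTransparency.types false
universe u

open CategoryTheory AlgebraicGeometry TopologicalSpace Opposite TensorProduct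

noncomputable section

namespace Groth.Agent.RefCh12

variable (p : ℕ) [Fact p.Prime] {X : Scheme.{u}} [FrobSch.IsCharP X p] [IsLocallyNoetherian X]

/-- A basis of a stalk gives a basis of the reflexive Frobenius pull-back. -/
theorem exists_fbasis {F : X.Modules} (hF : Coh.IsCoh F) {x : X} {r : ℕ}
    (e : Module.Basis (Fin r) (X.presheaf.stalk x) (F.presheaf.stalk x)) :
    ∃ e' : Module.Basis (Fin r) (X.presheaf.stalk x) ((frobRef p F).presheaf.stalk x),
      ∀ i, e' i = fval p F x (e i) := by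
  let f := FrobSch.frob X p
  let e₁ : Module.Basis (Fin r) (X.presheaf.stalk (f x)) (F.presheaf.stalk (f x)) := e
  let eP := (Algebra.TensorProduct.basis (X.presheaf.stalk x) e₁).map (M2.pullStalkEquiv f x F)
  haveI : Module.Free (X.presheaf.stalk x) (((Scheme.Modules.pullback f).obj F).presheaf.stalk x) := Module.Free.of_basis eP
  haveI : Module.Finite (X.presheaf.stalk x) (((Scheme.Modules.pullback f).obj F).presheaf.stalk x) := Module.Finite.of_basis eP
  have hR : RefHull.IsReflexiveAt ((Scheme.Modules.pullback f).obj F) x := by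
    show Module.IsReflexive (X.presheaf.stalk x) _
    infer_instance
  refine ⟨eP.map (LinearEquiv.ofBijective _ ((RH26.bijective_bidual_stalk_iff (M1.isCoh_pullback f hF) x).2 hR)),
    fun i => ?_⟩
  rw [Module.Basis.map_apply, LinearEquiv.ofBijective_apply, fval, Module.Basis.map_apply,
    Algebra.TensorProduct.basis_apply]
  exact congrArg _ (LinearMap.liftBaseChange_one_tmul _ _ _)

theorem fval_sp (F : X.Modules) {x ξ : X} (h : ξ ⤳ x) (v : F.presheaf.stalk x) :
    (frobRef p F).presheaf.stalkSpecializes h (fval p F x v) = fval p F ξ (F.presheaf.stalkSpecializes h v) := by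
  rw [fval, fval, RH26.stalkMapₗ_stalkSpecializes]
  exact congrArg _ (stalkUnit_stalkSpecializes (FrobSch.frob X p) h v)

theorem fval_sum (F : X.Modules) (x : X) {r : ℕ} (c : Fin r → X.presheaf.stalk x) (v : Fin r → F.presheaf.stalk x) :
    fval p F x (∑ i, c i • v i) = ∑ i, c i ^ p • fval p F x (v i) := by
  simp only [← fval_smul]
  rw [fval, map_sum, map_sum]
  rfl

variable [IsIntegral X]

/-- Reflexive Frobenius pull-back multiplies determinants by `p`. -/
theorem det_frobRef (hnorm : Pi1.IsNormalScheme X) {F : X.Modules} (hF : Coh.IsCoh F) (hc : RH26.Closed1 F) {r : ℕ}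
    (hr : Module.finrank (X.presheaf.stalk (genericPoint X)) (F.presheaf.stalk (genericPoint X)) = r)
    {W : X.Modules} (hW : ExtPow.IsExtPow r F W) :
    ∃ W' : X.Modules, ExtPow.IsExtPow r (frobRef p F) W' ∧
      Module.finrank (X.presheaf.stalk (genericPoint X)) ((frobRef p F).presheaf.stalk (genericPoint X)) = r ∧
      RH26.R1 (RefHull.ddual W) ∧ RH26.R1 (RefHull.ddual W') ∧
      Nonempty (RefHull.ddual W' ≅ frobRef p (RefHull.ddual W)) := by
  classical
  have hP := M1.isCoh_pullback (FrobSch.frob X p) hF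
  have hG : Coh.IsCoh (frobRef p F) := RH26.isCoh_dual (RH26.isCoh_dual hP)
  have hGc : RH26.Closed1 (frobRef p F) := RH26.closed1_dual hnorm (RH26.isCoh_dual hP)
  let W' := Wedge2.extMod r (frobRef p F)
  haveI := hG.1
  have hW' : ExtPow.IsExtPow r (frobRef p F) W' := Wedge2.isExtPow_extMod r (frobRef p F)
  have coh : ∀ {E V : X.Modules}, Coh.IsCoh E → ExtPow.IsExtPow r E V → Coh.IsCoh V := fun {E V} hE hV => by
    obtain ⟨φ, -⟩ := ExtFil4.exists_phi hV
    have hVq : Coh.IsQCoh V := Wedge2.isQCoh_of_isExtPow hE.1 hV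
    exact ⟨hVq, M1.isFT_of_finite_sections hVq fun U hU => by
      haveI := M1.finite_sections hE.1 (M1.isFP_isFT (M1.isFP_of_isCoh hE)) hU
      exact Module.Finite.equiv (φ ⟨U, hU⟩).symm⟩
  have hWc := coh hF hW
  have hWc' := coh hG hW'
  haveI := hWc.1
  haveI := hWc'.1
  obtain ⟨φ, hφ⟩ := ExtFil4.exists_phi hW
  obtain ⟨φ', hφ'⟩ := ExtFil4.exists_phi hW'
  have hFT := M1.isFP_isFT (M1.isFP_of_isCoh hF)
  haveI : IsPrincipalIdealRing (X.presheaf.stalk (genericPoint X)) :=
    RH26.isPrincipalIdealRing_stalk hnorm (by rw [ringKrullDim_eq_zero_of_isField RH26.isField_η]; exact zero_le_one)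
  haveI : Module.IsTorsionFree (X.presheaf.stalk (genericPoint X)) (F.presheaf.stalk (genericPoint X)) :=
    RH26.isTorsionFree_of_injective_sp (hc.1 _)
  obtain ⟨-, b, -⟩ := exists_basis_sp hF.1 hFT (x := genericPoint X) hr
  obtain ⟨b', hb'⟩ := exists_fbasis p hF b
  obtain ⟨U, hU, e, he⟩ := exists_affine_sections (F := F) (fun i => b i)
  obtain ⟨U', hU', e', he'⟩ := exists_affine_sections (F := frobRef p F) (fun i => b' i)
  have gw := gen_wg_generic hφ hU e b (fun i => (he i).symm)
  have gw' := gen_wg_generic hφ' hU' e' b' (fun i => (he' i).symm)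
  let L := RefHull.ddual W
  let L' := RefHull.ddual W'
  have rL : RH26.R1 L := RH26.R1.ddual hnorm hWc ⟨_, gw⟩
  have rL' : RH26.R1 L' := RH26.R1.ddual hnorm hWc' ⟨_, gw'⟩
  let ω := RefHull.stalkMapₗ (RefHull.bidualMap W) (genericPoint X) (wg φ U hU e)
  let ω' := RefHull.stalkMapₗ (RefHull.bidualMap W') (genericPoint X) (wg φ' U' hU' e')
  have gω : Amp.Gen ω := RH26.gen_bidual hWc gw
  have gω' : Amp.Gen ω' := RH26.gen_bidual hWc' gw'
  have rfr : Module.finrank (X.presheaf.stalk (genericPoint X)) ((frobRef p F).presheaf.stalk (genericPoint X)) = r := by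
    rw [Module.finrank_eq_card_basis b', Fintype.card_fin]
  refine ⟨W', hW', rfr, rL, rL', ?_⟩
  obtain ⟨h1, h2⟩ := fval_spec p rL (RH26.ne_zero_of_gen gω)
  refine rL'.nonempty_iso (r1_frobRef p rL) (RH26.ne_zero_of_gen gω') h1 fun x hx => ?_
  rw [h2 x hx]
  haveI := (hnorm x).1
  haveI := RH26.isPrincipalIdealRing_stalk hnorm ((RH26.dim_eq_one_iff x).2 hx).le
  haveI : Module.IsTorsionFree (X.presheaf.stalk x) (F.presheaf.stalk x) := RH26.isTorsionFree_of_injective_sp (hc.1 x)
  obtain ⟨ex, bx, hbx⟩ := exists_basis_sp hF.1 hFT (x := x) hr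
  obtain ⟨ex', hex'⟩ := exists_fbasis p hF ex
  obtain ⟨bx', hbx'⟩ := exists_fbasis p hF bx
  have hbsp : ∀ i, bx' i = (frobRef p F).presheaf.stalkSpecializes (RH26.gsp x) (ex' i) := fun i => by
    rw [hex', hbx', fval_sp, hbx]
  obtain ⟨V, hxV, t, ht⟩ := exists_affine_sections (F := F) (fun i => ex i)
  obtain ⟨V', hxV', t', ht'⟩ := exists_affine_sections (F := frobRef p F) (fun i => ex' i)
  obtain ⟨gt, tsp⟩ := gen_wg hφ hxV t (fun v => ⟨fun i => ex.repr v i, by simp only [ht, ex.sum_repr]⟩) bx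
    (fun i => (hbx i).trans (by rw [ht i]))
  obtain ⟨gt', tsp'⟩ := gen_wg hφ' hxV' t' (fun v => ⟨fun i => ex'.repr v i, by simp only [ht', ex'.sum_repr]⟩) bx'
    (fun i => (hbsp i).trans (by rw [ht' i]))
  let A : Matrix (Fin r) (Fin r) (X.presheaf.stalk (genericPoint X)) := fun j k => bx.repr (b j) k
  have e1 : wg φ U hU e = A.det • wg φ V (RH26.mem_of_genericPoint V.1 hxV) t := by
    refine wg_det hφ hU _ e t A fun j => ?_
    rw [he]
    refine (bx.sum_repr (b j)).symm.trans (Finset.sum_congr rfl fun k _ => ?_)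
    rw [hbx, ← ht k, TopCat.Presheaf.germ_stalkSpecializes_apply]
  have e2 : wg φ' U' hU' e' = (A.map fun z => z ^ p).det • wg φ' V' (RH26.mem_of_genericPoint V'.1 hxV') t' := by
    refine wg_det hφ' hU' _ e' t' (A.map fun z => z ^ p) fun j => ?_
    rw [he', hb']
    refine (congrArg (fval p F (genericPoint X)) (bx.sum_repr (b j)).symm).trans ?_
    rw [fval_sum]
    refine Finset.sum_congr rfl fun k _ => ?_
    rw [← hbx', hbsp, ← ht' k, TopCat.Presheaf.germ_stalkSpecializes_apply]
    rfl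
  have hdet : (A.map fun z => z ^ p).det = A.det ^ p := by
    haveI : CharP (X.presheaf.stalk (genericPoint X)) p :=
      (CharP.charP_iff_prime_eq_zero Fact.out).2 (by
        have h := congrArg (X.presheaf.germ ⊤ (genericPoint X) trivial).hom (FrobSch.IsCharP.natCast_eq_zero (X := X) (p := p))
        simpa using h)
    exact ((frobenius (X.presheaf.stalk (genericPoint X)) p).map_det A).symm
  have hA0 : A.det ≠ 0 := fun h => RH26.ne_zero_of_gen gw (by rw [e1, h, zero_smul])
  have gb := RH26.gen_bidual hWc gt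
  have gb' := RH26.gen_bidual hWc' gt'
  have sp1 : L.presheaf.stalkSpecializes (RH26.gsp x) (RefHull.stalkMapₗ (RefHull.bidualMap W) x (wg φ V hxV t)) =
      RefHull.stalkMapₗ (RefHull.bidualMap W) _ (wg φ V (RH26.mem_of_genericPoint V.1 hxV) t) := by
    rw [RH26.stalkMapₗ_stalkSpecializes, tsp]
  have sp2 : L'.presheaf.stalkSpecializes (RH26.gsp x) (RefHull.stalkMapₗ (RefHull.bidualMap W') x (wg φ' V' hxV' t')) =
      RefHull.stalkMapₗ (RefHull.bidualMap W') _ (wg φ' V' (RH26.mem_of_genericPoint V'.1 hxV') t') := by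
    rw [RH26.stalkMapₗ_stalkSpecializes, tsp']
  have gη := RH26.gen_sp (rL.closed.1 x) gω gb
  have gη' := RH26.gen_sp (rL'.closed.1 x) gω' gb'
  simp only [ω, ω', e1, e2, map_smul, hdet, ← sp1, ← sp2]
  rw [RH26.ordv_gen hx gb gη hA0, RH26.ordv_gen hx gb' gη' (pow_ne_zero p hA0), ord_pow' hA0 x p]

theorem frobRef_refPow {L A : X.Modules} (hL : RH26.R1 L) {n : ℕ} (e : Nonempty (A ≅ RefPow.refPow L n)) :
    Nonempty (frobRef p A ≅ RefPow.refPow L (p * n)) := by
  obtain ⟨e⟩ := e
  obtain ⟨a, ha⟩ := hL.exists_ne_zero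
  obtain ⟨c, hc, hc'⟩ := exists_refPow_val hL ha n
  obtain ⟨d, hd, hd'⟩ := exists_refPow_val hL ha (p * n)
  have rP := hL.refPow n
  have rA := r1_iso rP e.symm
  obtain ⟨h1, h2⟩ := fval_spec p rA (RH26.R1.map_ne_zero e.symm hc)
  exact (r1_frobRef p rA).nonempty_iso (hL.refPow (p * n)) h1 hd fun x hx => by
    rw [h2 x hx, rP.ordv_map e.symm hx hc, hc' x hx, hd' x hx]; push_cast; ring

end Groth.Agent.RefCh12
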