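import Groth.Agent.Lib.RefHull26.ClassLaw
import Groth.Agent.Lib.RefHull26.Pow
import Groth.Agent.Lib.TensorMod.PullStalk
import Groth.Agent.Lib.ModM1.Pull
import Groth.Prelude.Def_Frob

/-! # Reflexive Frobenius pull-backs of rank one modules -/

set_option autoImplicit false
set_option linter.style.haveILetI false
set_option backward.isDefEq.respectTransparency false
set_option backward.isDefEq.respectTransparency.types false
universe u

open CategoryTheory AlgebraicGeometry TopologicalSpace Opposite TensorProduct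

noncomputable section

namespace Groth.Agent.RefCh12

/-- The unit of pullback commutes with specialization. -/
theorem stalkUnit_stalkSpecializes {X Y : Scheme.{u}} (f : Y ⟶ X) {M : X.Modules} {x ξ : Y} (h : ξ ⤳ x)
    (a : M.presheaf.stalk (f x)) :
    ((Scheme.Modules.pullback f).obj M).presheaf.stalkSpecializes h (M2.stalkUnit f x M a) =
      M2.stalkUnit f ξ M (M.presheaf.stalkSpecializes (h.map f.continuous) a) := by
  obtain ⟨U, hU, s, rfl⟩ := M.presheaf.germ_exist a
  show ((Scheme.Modules.pullback f).obj M).presheaf.stalkSpecializes h (M2.stalkUnitHom f x M _) = M2.stalkUnitHom f ξ M _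
  rw [M2.stalkUnitHom_germ, TopCat.Presheaf.germ_stalkSpecializes_apply, TopCat.Presheaf.germ_stalkSpecializes_apply,
    M2.stalkUnitHom_germ]

/-- The unit of pullback preserves generators. -/
theorem gen_stalkUnit {X Y : Scheme.{u}} (f : Y ⟶ X) {M : X.Modules} {x : Y} {g : M.presheaf.stalk (f x)}
    (hg : Amp.Gen g) : Amp.Gen (M2.stalkUnit f x M g) := by
  let e : Y.presheaf.stalk x ≃ₗ[Y.presheaf.stalk x] ((Scheme.Modules.pullback f).obj M).presheaf.stalk x :=
    (TensorProduct.AlgebraTensorModule.rid (X.presheaf.stalk (f x)) (Y.presheaf.stalk x) (Y.presheaf.stalk x)).symm ≪≫ₗ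
      TensorProduct.AlgebraTensorModule.congr (LinearEquiv.refl _ _) (RH26.genEquiv hg) ≪≫ₗ M2.pullStalkEquiv f x M
  have he : e 1 = M2.stalkUnit f x M g := by
    simp only [e, LinearEquiv.trans_apply, TensorProduct.AlgebraTensorModule.rid_symm_apply,
      TensorProduct.AlgebraTensorModule.congr_tmul, LinearEquiv.refl_apply, RH26.genEquiv_apply]
    exact (LinearMap.liftBaseChange_one_tmul _ _ _).trans (congrArg _ (one_smul _ _))
  rw [← he]
  exact RH26.gen_of_equiv e

variable (p : ℕ) [Fact p.Prime] {X : Scheme.{u}} [FrobSch.IsCharP X p]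

/-- The reflexive Frobenius pull-back. -/
abbrev frobRef (F : X.Modules) : X.Modules :=
  RefHull.ddual ((Scheme.Modules.pullback (FrobSch.frob X p)).obj F)

/-- On stalks the Frobenius is the power map. -/
theorem frob_stalkMap (x : X) (t : X.presheaf.stalk x) : (FrobSch.frob X p).stalkMap x t = t ^ p := by
  obtain ⟨U, hU, s, rfl⟩ := X.presheaf.germ_exist t
  exact (Scheme.Hom.germ_stalkMap_apply (FrobSch.frob X p) U x hU s).trans (map_pow _ s p)

/-- The value of the pull-back of a generic value. -/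
def fval (F : X.Modules) (x : X) (a : F.presheaf.stalk x) : (frobRef p F).presheaf.stalk x :=
  RefHull.stalkMapₗ (RefHull.bidualMap ((Scheme.Modules.pullback (FrobSch.frob X p)).obj F)) x
    (M2.stalkUnit (FrobSch.frob X p) x F a)

theorem fval_smul (F : X.Modules) (x : X) (r : X.presheaf.stalk x) (a : F.presheaf.stalk x) :
    fval p F x (r • a) = r ^ p • fval p F x a := by
  rw [fval, fval, ← frob_stalkMap p x r, ← map_smul]
  exact congrArg _ ((M2.stalkUnit (FrobSch.frob X p) x F).map_smul r a)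

variable [IsLocallyNoetherian X]

theorem gen_fval {F : X.Modules} (hF : Coh.IsCoh F) {x : X} {g : F.presheaf.stalk x} (hg : Amp.Gen g) :
    Amp.Gen (fval p F x g) :=
  RH26.gen_bidual (M1.isCoh_pullback _ hF) (gen_stalkUnit (FrobSch.frob X p) hg)

variable [IsIntegral X]

theorem r1_frobRef {F : X.Modules} (hF : RH26.R1 F) : RH26.R1 (frobRef p F) := by
  obtain ⟨g, hg⟩ := hF.gen
  exact RH26.R1.ddual hF.normal (M1.isCoh_pullback _ hF.coh) ⟨_, gen_stalkUnit (FrobSch.frob X p) hg⟩

theorem ord_pow' {φ : X.functionField} (hφ : φ ≠ 0) (x : X) : ∀ n : ℕ, Scheme.ord (φ ^ n) x = n * Scheme.ord φ x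
  | 0 => by rw [pow_zero, RH26.ord_one, Nat.cast_zero, zero_mul]
  | n + 1 => by rw [pow_succ, Scheme.ord_mul (pow_ne_zero n hφ) hφ, ord_pow' hφ x n]; push_cast; ring

theorem fval_spec {F : X.Modules} (hF : RH26.R1 F) {a : F.presheaf.stalk (genericPoint X)} (ha : a ≠ 0) :
    fval p F (genericPoint X) a ≠ 0 ∧ ∀ x : X, Order.coheight x = 1 →
      RH26.ordv (frobRef p F) x (fval p F (genericPoint X) a) = p * RH26.ordv F x a := by
  refine ⟨RH26.ne_zero_of_gen (gen_fval p hF.coh (RH26.gen_of_ne_zero hF ha)), fun x hx => ?_⟩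
  obtain ⟨g, hg, hgη⟩ := hF.gen_one hx
  obtain ⟨φ, hφ, rfl⟩ := RH26.exists_rep_η hgη ha
  have hsp : (frobRef p F).presheaf.stalkSpecializes (RH26.gsp x) (fval p F x g) =
      fval p F (genericPoint X) (F.presheaf.stalkSpecializes (RH26.gsp x) g) := by
    rw [fval, fval, RH26.stalkMapₗ_stalkSpecializes]
    exact congrArg _ (stalkUnit_stalkSpecializes (FrobSch.frob X p) (RH26.gsp x) g)
  have hgen := gen_fval p hF.coh hg
  rw [fval_smul, RH26.ordv_gen hx hg hgη hφ, ← hsp,
    RH26.ordv_gen hx hgen (by rw [hsp]; exact gen_fval p hF.coh hgη) (pow_ne_zero p hφ), ord_pow' hφ x p]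

theorem exists_refPow_val {F : X.Modules} (hF : RH26.R1 F) {a : F.presheaf.stalk (genericPoint X)} (ha : a ≠ 0) :
    ∀ n : ℕ, ∃ c : (RefPow.refPow F n).presheaf.stalk (genericPoint X), c ≠ 0 ∧
      ∀ x : X, Order.coheight x = 1 → RH26.ordv (RefPow.refPow F n) x c = n * RH26.ordv F x a
  | 0 => ⟨RH26.str (genericPoint X) 1, RH26.str_one_ne_zero, fun x hx => by
      rw [Nat.cast_zero, zero_mul]; exact RH26.ordv_structure_one hF.normal hx⟩
  | 1 => ⟨a, ha, fun x _ => by rw [Nat.cast_one, one_mul]; rfl⟩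
  | n + 2 => by
    obtain ⟨c, hc, hc'⟩ := exists_refPow_val hF ha (n + 1)
    obtain ⟨h1, h2⟩ := (hF.refPow (n + 1)).pr_spec hF hc ha
    exact ⟨RH26.pr _ F c a, h1, fun x hx => (h2 x hx).trans (by rw [hc' x hx]; push_cast; ring)⟩

theorem r1_iso {F G : X.Modules} (hF : RH26.R1 F) (e : F ≅ G) : RH26.R1 G := by
  refine ⟨hF.normal, CohFound.isCoh_of_iso e hF.coh, RH26.closed1_of_iso e.symm hF.closed, ?_⟩
  obtain ⟨g, hg⟩ := hF.gen
  refine ⟨RefHull.stalkMapₗ e.hom (genericPoint X) g, ?_⟩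
  show Function.Bijective fun r => r • RefHull.stalkMapₗ e.hom (genericPoint X) g
  simp only [← map_smul]
  exact ((RH26.isIso_iff_stalkMapₗ e.hom).1 inferInstance _).comp hg

/-- Iterated reflexive Frobenius pull-backs of a rank one module are its reflexive powers. -/
theorem frobRef_iter {F : X.Modules} (hF : RH26.R1 F) (G : ℕ → X.Modules) (h0 : G 0 = F)
    (hG : ∀ m, Nonempty (G (m + 1) ≅ frobRef p (G m))) : ∀ m : ℕ, Nonempty (G m ≅ RefPow.refPow F (p ^ m))
  | 0 => by rw [pow_zero]; exact ⟨eqToIso h0⟩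
  | m + 1 => by
    obtain ⟨e⟩ := frobRef_iter hF G h0 hG m
    obtain ⟨e'⟩ := hG m
    obtain ⟨a, ha⟩ := hF.exists_ne_zero
    obtain ⟨c, hc, hc'⟩ := exists_refPow_val hF ha (p ^ m)
    obtain ⟨d, hd, hd'⟩ := exists_refPow_val hF ha (p ^ (m + 1))
    have rP := hF.refPow (p ^ m)
    have rG := r1_iso rP e.symm
    obtain ⟨h1, h2⟩ := fval_spec p rG (RH26.R1.map_ne_zero e.symm hc)
    obtain ⟨e''⟩ := (r1_frobRef p rG).nonempty_iso (hF.refPow (p ^ (m + 1))) h1 hd fun x hx => by
      rw [h2 x hx, rP.ordv_map e.symm hx hc, hc' x hx, hd' x hx]; push_cast; ring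
    exact ⟨e' ≪≫ e''⟩

end Groth.Agent.RefCh12
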