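import Groth.Agent.Lib.RefCh12.Alt
import Groth.Agent.Lib.RefCh12.Index
import Groth.Agent.Lib.RefHull26.ClassLaw
import Groth.Agent.Lib.RefHull26.Pow
import Groth.Agent.Lib.EulerAdd18.Basic
import Groth.Agent.Lib.Snapper.Vanish
import Groth.Agent.Lib.CohFound.ProjQuot
import Groth.Agent.Lib.CohFound.ProperFinite
import Groth.Agent.Lib.Cyc26.P1Div
import Groth.Agent.Lib.Cyc26.MVExact
import Groth.Agent.Lib.UCat26.DimFun
import Groth.Agent.S17932

/-! # Intersection numbers of reflexive powers -/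

set_option autoImplicit false
set_option linter.style.haveILetI false
set_option backward.isDefEq.respectTransparency false
set_option backward.isDefEq.respectTransparency.types false
universe u

open CategoryTheory CategoryTheory.Limits AlgebraicGeometry TopologicalSpace Filter

noncomputable section

namespace Groth.Agent.RefCh12

variable {k : Type u} [Field k] {X : Scheme.{u}} [X.Over (Spec (CommRingCat.of k))]

variable (k) in
/-- The Euler characteristic on classes. -/
def chiK [IsProper (X ↘ Spec (CommRingCat.of k))] {d : ℕ} (hd : topologicalKrullDim X ≤ (d : WithBot ℕ∞))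
    (δ : X → ℤ) (n : ℤ) : KZero.K0sub (Cyc.CohLe δ n) →+ ℤ :=
  K0Cat.liftSub (fun F => FGA.eulerCharLE k X F.1 d) fun S h₁ h₂ h₃ hS => by
    haveI : AlgebraicGeometry.IsNoetherian X := CohFound.isNoetherian_of_isProper (X ↘ Spec (CommRingCat.of k))
    rw [Snapper.eulerCharLE_eq_euler d hd h₁.1, Snapper.eulerCharLE_eq_euler d hd h₂.1,
      Snapper.eulerCharLE_eq_euler d hd h₃.1]
    exact EulerAdd18.euler_add hS (N := d)
      ⟨fun n => CohFound.finite_HH_of_isProper _ h₁.1 n, fun n hn => Snapper.subsingleton_HH_of_dim k d hd h₁.1.1 (by omega)⟩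
      ⟨fun n => CohFound.finite_HH_of_isProper _ h₂.1 n, fun n hn => Snapper.subsingleton_HH_of_dim k d hd h₂.1.1 (by omega)⟩
      ⟨fun n => CohFound.finite_HH_of_isProper _ h₃.1 n, fun n hn => Snapper.subsingleton_HH_of_dim k d hd h₃.1.1 (by omega)⟩

theorem chiK_clSub [IsProper (X ↘ Spec (CommRingCat.of k))] {d : ℕ} (hd : topologicalKrullDim X ≤ (d : WithBot ℕ∞))
    {δ : X → ℤ} {n : ℤ} {F : X.Modules} (hF : Cyc.CohLe δ n F) :
    chiK k hd δ n (KZero.clSub (Cyc.CohLe δ n) F) = FGA.eulerCharLE k X F d :=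
  K0Cat.liftSub_clSub _ _ hF

theorem intNum_eq_chiK [IsProper (X ↘ Spec (CommRingCat.of k))] [IsLocallyNoetherian X] {d : ℕ}
    (hd : topologicalKrullDim X ≤ (d : WithBot ℕ∞)) {δ : X → ℤ} {n : ℤ} {m : ℕ} (M : Fin m → X.Modules)
    (hM : ∀ i, PicF.IsInvertible (M i)) {F : X.Modules} (hF : Cyc.CohLe δ n F) :
    FGA.intNum k X d M F = chiK k hd δ n (alt n M hM Finset.univ (KZero.clSub (Cyc.CohLe δ n) F)) := by
  rw [alt_univ_clSub M hM hF, map_sum, FGA.intNum]
  refine Finset.sum_congr rfl fun I _ => ?_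
  rw [map_zsmul, chiK_clSub hd, smul_eq_mul]
  exact cohLe_iso (M2.tensorComm F (sel M I)) (cohLe_tensor (isInvertible_sel hM I) hF)

section
omit [X.Over (Spec (CommRingCat.of k))]
variable [IsLocallyNoetherian X] {δ : X → ℤ}

theorem dif_unit (n : ℤ) (hO : PicF.IsInvertible (Coh.structureModule X)) :
    dif (δ := δ) n (Coh.structureModule X) hO = 0 := by
  refine AddMonoidHom.ext fun x => ?_
  induction x using K0Cat.clSub_induction with
  | h0 => simp
  | hcl F hF =>
    rw [dif, AddMonoidHom.sub_apply, AddMonoidHom.id_apply, tw_clSub hO hF,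
      clSub_iso (M2.tensorRUnit F) (cohLe_tensor hO hF), sub_self]
    rfl
  | hneg a ha => simp [ha]
  | hadd a b ha hb => simp [ha, hb]

theorem dif_congr {n : ℤ} {M N : X.Modules} (hM : PicF.IsInvertible M) (hN : PicF.IsInvertible N)
    (e : Nonempty (M ≅ N)) : dif (δ := δ) n M hM = dif n N hN := by
  rw [dif, dif, tw_congr hM hN e]

theorem dif_tensor {n : ℤ} {A B : X.Modules} (hA : PicF.IsInvertible A) (hB : PicF.IsInvertible B)
    (x : KZero.K0sub (Cyc.CohLe δ n)) :
    dif n (CohB1.tensorMod A B) (M2.isInvertible_tensor hA hB) x =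
      dif n A hA x + dif n B hB x - dif n B hB (dif n A hA x) := by
  simp only [dif, AddMonoidHom.sub_apply, AddMonoidHom.id_apply, map_sub]
  rw [← tw_tw hB hA]
  simp only [AddMonoidHom.comp_apply]
  abel

theorem alt_cons {n : ℤ} {m : ℕ} {C : X.Modules} (hC : PicF.IsInvertible C) (M : Fin m → X.Modules)
    (hM : ∀ i, PicF.IsInvertible (M i)) (hc : ∀ i, PicF.IsInvertible ((Fin.cons C M : Fin (m + 1) → X.Modules) i)) :
    alt (δ := δ) n (Fin.cons C M : Fin (m + 1) → X.Modules) hc Finset.univ =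
      (alt n M hM Finset.univ).comp (dif n C hC) := by
  classical
  have key : ∀ S : Finset (Fin m),
      alt (δ := δ) n (Fin.cons C M : Fin (m + 1) → X.Modules) hc (S.image Fin.succ) = alt n M hM S := by
    intro S
    induction S using Finset.induction_on with
    | empty =>
      simp only [alt, Finset.image_empty, Finset.powerset_empty, Finset.sum_singleton]
      congr 1
      exact tw_congr _ _ ⟨eqToIso (by simp [sel, Finset.sort_empty])⟩
    | insert a S ha ih =>
      rw [Finset.image_insert, alt_insert _ _ hc (by simpa using ha), alt_insert _ _ hM ha, ih,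
        dif_congr (hc a.succ) (hM a) ⟨eqToIso (Fin.cons_succ _ _ _)⟩]
  rw [show (Finset.univ : Finset (Fin (m + 1))) = insert 0 (Finset.univ.image Fin.succ) by
    ext i; rcases Fin.eq_zero_or_eq_succ i with rfl | ⟨j, rfl⟩ <;> simp]
  rw [alt_insert _ _ hc (by simp [Fin.succ_ne_zero]), key, dif_congr (hc 0) hC ⟨eqToIso (Fin.cons_zero _ _)⟩]

variable [IsIntegral X]

theorem isRef1_of_isInvertible {L : X.Modules} (hL : PicF.IsInvertible L) : RefHull.IsRef1 L := by
  have hc := Snapper.isCoh_of_isInvertible hL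
  refine ⟨hc, (RH26.isReflexive_iff_stalks hc).2 fun x => ?_, ?_⟩
  · obtain ⟨g, hg⟩ := Cyc26.exists_gen hL x
    exact RH26.isReflexiveAt_of_gen hg
  · obtain ⟨g, hg⟩ := Cyc26.exists_gen hL (genericPoint X)
    exact RH26.genInvertible_of_gen hc hg

theorem refTensor_invertible (hnorm : Pi1.IsNormalScheme X) {F : X.Modules} (hF : RefHull.IsRef1 F) {N : X.Modules}
    (hN : PicF.IsInvertible N) : Nonempty (RefPow.refTensor F N ≅ CohB1.tensorMod F N) := by
  have hT : RefHull.IsReflexive (CohB1.tensorMod F N) :=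
    (RH26.isReflexive_iff_stalks (CohFound.isCoh_tensor hF.1 (Snapper.isCoh_of_isInvertible hN))).2 fun x => by
      obtain ⟨e⟩ := stalk_tensor_equiv F hN x
      haveI : Module.IsReflexive (X.presheaf.stalk x) (F.presheaf.stalk x) := (RH26.isReflexive_iff_stalks hF.1).1 hF.2.1 x
      exact Module.equiv e.symm
  haveI : IsIso (RefHull.bidualMap (CohB1.tensorMod F N)) := hT
  exact ⟨(asIso (RefHull.bidualMap (CohB1.tensorMod F N))).symm⟩

/-- The product of four. -/
theorem tensorHull_four {A B C D : X.Modules} (hA : RH26.R1 A) (hB : RH26.R1 B) (hC : RH26.R1 C) (hD : RH26.R1 D) :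
    Nonempty (RefPow.refTensor (RefPow.refTensor A B) (RefPow.refTensor C D) ≅
      RefPow.refTensor (RefPow.refTensor A C) (RefPow.refTensor B D)) := by
  obtain ⟨a, ha⟩ := hA.exists_ne_zero
  obtain ⟨b, hb⟩ := hB.exists_ne_zero
  obtain ⟨c, hc⟩ := hC.exists_ne_zero
  obtain ⟨d, hd⟩ := hD.exists_ne_zero
  obtain ⟨h1, h2⟩ := hA.pr_spec hB ha hb
  obtain ⟨h3, h4⟩ := hC.pr_spec hD hc hd
  obtain ⟨h5, h6⟩ := hA.pr_spec hC ha hc
  obtain ⟨h7, h8⟩ := hB.pr_spec hD hb hd
  obtain ⟨h9, h10⟩ := (hA.tensorHull hB).pr_spec (hC.tensorHull hD) h1 h3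
  obtain ⟨h11, h12⟩ := (hA.tensorHull hC).pr_spec (hB.tensorHull hD) h5 h7
  exact ((hA.tensorHull hB).tensorHull (hC.tensorHull hD)).nonempty_iso
    ((hA.tensorHull hC).tensorHull (hB.tensorHull hD)) h9 h11 fun x hx => by
      rw [h10 x hx, h12 x hx, h2 x hx, h4 x hx, h6 x hx, h8 x hx]
      abel

theorem refPow_tensor_invertible (hnorm : Pi1.IsNormalScheme X) {A N : X.Modules} (hA : RefHull.IsRef1 A)
    (hN : PicF.IsInvertible N) : ∀ m : ℕ,
      Nonempty (RefPow.refPow (RefPow.refTensor A N) m ≅ CohB1.tensorMod (RefPow.refPow A m) (CohB1.tensorPow N m))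
  | 0 => ⟨(M2.tensorRUnit (Coh.structureModule X)).symm⟩
  | 1 => by
    obtain ⟨e⟩ := refTensor_invertible hnorm hA hN
    exact ⟨e ≪≫ M2.tensorIso (Iso.refl A) (M2.tensorLUnit N).symm⟩
  | m + 2 => by
    have rA := RH26.R1.of_ref1 hnorm hA
    have hN' := M2.isInvertible_tensorPow hN (m + 1)
    have rN := RH26.R1.of_ref1 hnorm (isRef1_of_isInvertible hN)
    have rN' := RH26.R1.of_ref1 hnorm (isRef1_of_isInvertible hN')
    have rP := rA.refPow (m + 1)
    obtain ⟨e⟩ := refPow_tensor_invertible hnorm hA hN (m + 1)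
    obtain ⟨e1⟩ := refTensor_invertible hnorm rP.isRef1 hN'
    obtain ⟨e2⟩ := ((rA.tensorHull rN).refPow (m + 1)).tensorHull_congr (rP.tensorHull rN') (rA.tensorHull rN)
      (rA.tensorHull rN) (e ≪≫ e1.symm) (Iso.refl _)
    obtain ⟨e3⟩ := tensorHull_four rP rN' rA rN
    have hN2 := M2.isInvertible_tensor hN' hN
    obtain ⟨e4⟩ := refTensor_invertible hnorm (rN'.isRef1) hN
    obtain ⟨e5⟩ := (rP.tensorHull rA).tensorHull_congr (rP.tensorHull rA) (rN'.tensorHull rN)
      (RH26.R1.of_ref1 hnorm (isRef1_of_isInvertible hN2)) (Iso.refl _) e4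
    obtain ⟨e6⟩ := refTensor_invertible hnorm (rP.tensorHull rA).isRef1 hN2
    exact ⟨e2 ≪≫ e3 ≪≫ e5 ≪≫ e6⟩

theorem refPow_invertible (hnorm : Pi1.IsNormalScheme X) {N : X.Modules} (hN : PicF.IsInvertible N) : ∀ m : ℕ,
    Nonempty (RefPow.refPow N m ≅ CohB1.tensorPow N m)
  | 0 => ⟨Iso.refl _⟩
  | 1 => ⟨(M2.tensorLUnit N).symm⟩
  | m + 2 => by
    have rN := RH26.R1.of_ref1 hnorm (isRef1_of_isInvertible hN)
    have hN' := M2.isInvertible_tensorPow hN (m + 1)
    obtain ⟨e⟩ := refPow_invertible hnorm hN (m + 1)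
    obtain ⟨e2⟩ := (rN.refPow (m + 1)).tensorHull_congr (RH26.R1.of_ref1 hnorm (isRef1_of_isInvertible hN')) rN rN e (Iso.refl N)
    obtain ⟨e4⟩ := refTensor_invertible hnorm (isRef1_of_isInvertible hN') hN
    exact ⟨e2 ≪≫ e4⟩

end

/-- Classes of reflexive powers are linear modulo codimension two. -/
theorem refPow_linear [IsAlgClosed k] [IsIntegral X] (hnorm : Pi1.IsNormalScheme X) (s : ℕ)
    (hdim : topologicalKrullDim X = (s + 2 : ℕ))
    (hproj : ∃ (N : ℕ) (ι : X ⟶ CohB1.ProjSpace N k), IsClosedImmersion ι ∧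
      ι ≫ CohB1.ProjSpace.toSpec N k = X ↘ Spec (CommRingCat.of k))
    {δ : X → ℤ} (hδ : Cyc.IsSetup X δ) (hδη : δ (genericPoint X) = (s + 2 : ℕ))
    {F : X.Modules} (hF : RefHull.IsRef1 F) : ∀ m : ℕ,
      KZero.clSub (Cyc.CohLe δ (s + 2 : ℕ)) (RefPow.refPow F m) -
        KZero.clSub (Cyc.CohLe δ (s + 2 : ℕ)) (Coh.structureModule X) -
        (m : ℤ) • (KZero.clSub (Cyc.CohLe δ (s + 2 : ℕ)) F -
          KZero.clSub (Cyc.CohLe δ (s + 2 : ℕ)) (Coh.structureModule X)) ∈ lvl δ (s + 2 : ℕ) (s : ℕ)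
  | 0 => by simp
  | 1 => by simp
  | m + 2 => by
    haveI := hδ.1
    have h := refPow_linear hnorm s hdim hproj hδ hδη hF (m + 1)
    have hP := ((RH26.R1.of_ref1 hnorm hF).refPow (m + 1)).isRef1
    have e := S17932.result k X hnorm s hdim hproj δ hδ hδη _ F hP hF
    simp only [Cyc.toK0CohQuot, ← QuotientAddGroup.mk_add] at e
    rw [QuotientAddGroup.eq_iff_sub_mem] at e
    have := add_mem h e
    convert this using 1
    rw [RefPow.refPow_succ_succ]
    push_cast
    simp only [add_smul, two_smul, one_smul, ← two_mul]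
    abel

variable (k) in
/-- A dimension function with prescribed value at the generic point. -/
theorem exists_delta [IsIntegral X] [IsProper (X ↘ Spec (CommRingCat.of k))] (n : ℤ) :
    ∃ δ : X → ℤ, Cyc.IsSetup X δ ∧ δ (genericPoint X) = n := by
  let f := X ↘ Spec (CommRingCat.of k)
  haveI : IsLocallyNoetherian X := LocallyOfFiniteType.isLocallyNoetherian f
  obtain ⟨δ, hδ⟩ := P1S26.exists_deltaCompat f (fun _ => 0)
  have hd := UCat26.isDimFun_of_deltaCompat f (Cyc26.isUniversallyCatenary_stalk_field k) (fun x y _ hne =>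
    absurd (Subsingleton.elim x y) hne) hδ
  refine ⟨fun x => δ x - δ (genericPoint X) + n, ⟨inferInstance, fun x => ?_, fun x y h hne => ?_⟩, by simp⟩
  · letI := (f.stalkMap x).hom.toAlgebra
    haveI : Algebra.EssFiniteType ((Spec (CommRingCat.of k)).presheaf.stalk (f x)) (X.presheaf.stalk x) :=
      LocallyOfFiniteType.stalkMap f x
    exact UCat.isUniversallyCatenary_of_essFiniteType _ _ (Cyc26.isUniversallyCatenary_stalk_field k (f x))
  · obtain ⟨h1, h2⟩ := hd x y h hne
    exact ⟨by simp [h1], fun hz => by simp only [h2 hz]; ring⟩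

/-- A linear sequence is negligible against squares. -/
theorem tendsto_linear_div_sq (a b : ℝ) :
    Tendsto (fun m : ℕ => (a + b * m) / (m : ℝ) ^ 2) atTop (nhds 0) := by
  have h1 : Tendsto (fun m : ℕ => (1 : ℝ) / (m : ℝ)) atTop (nhds 0) := tendsto_one_div_atTop_nhds_zero_nat
  have h2 := ((h1.mul h1).const_mul a).add (h1.const_mul b)
  rw [mul_zero, mul_zero, mul_zero, zero_add] at h2
  refine h2.congr' ?_
  filter_upwards [eventually_ne_atTop 0] with m hm
  have : (m : ℝ) ≠ 0 := by exact_mod_cast hm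
  field_simp

end Groth.Agent.RefCh12
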